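import Cfsg.Agent.H935.J4Max.ListCl

/-!
# Words for `Aut(M₂₂)` in `J₄`: kernel checks (helper935)

Generated. `ws` computes elements `d` (order 7), `s`, `k` generating `Aut(M₂₂)`, elements `r, v1, v3` generating the
factor `S₅` of `C(d) = 7 × S₅`, and others; `wsA` lists this `S₅`, `wsP` lists a subgroup of order 256 of
`⟨d, s, k⟩`.
-/

set_option autoImplicit false
set_option Elab.async false

namespace Cfsg.Agent.H935.J4Max.M22Data

open Cfsg.Agent.Lib Cfsg.Agent.Lib.F2MatGroup Cfsg.Agent.J4.Rep112 Cfsg.Agent.H935.J4Max.Eval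
open Cfsg.Agent.H935.J4Max.ListCl

/-- the program; results: p3 = 0, p2 = 1, p1 = 2, p0 = 3, f = 4, B2 = 5, B1 = 6, b2 = 7, b1 = 8, k = 9, s = 10, r = 11, v3 = 12, v1 = 13, c2 = 14, c = 15, c0 = 16, D = 17, d = 18 -/
def ws : List (List ℕ) := [[0, 1, 0, 1, 0, 1, 0, 1, 0, 1, 0, 2, 0, 1, 0, 2, 0, 2, 0, 2], [0, 0, 0, 0, 0, 0], [3, 2,
  3, 2, 4, 2, 4, 2, 4, 2, 4, 5, 3, 2, 3, 2, 3, 2, 3, 2, 4, 2], [0, 0, 0], [0, 4, 6, 4, 6, 4, 0, 4, 5, 4, 5, 4], [5,
  7, 0, 6, 5], [6, 7, 6, 8, 6, 1, 6, 7, 6, 8, 6], [8, 7, 9, 7, 9, 7, 8, 7, 9, 7, 8, 7, 9, 7, 9, 7, 9, 7, 9, 7, 8, 7,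
  8, 10, 9, 7, 9, 7, 8, 7, 8, 7, 8, 7, 8, 7, 9, 7, 8, 7, 9, 7, 8, 7, 8, 7, 9], [10, 11, 8, 10, 11, 10, 11, 8, 9, 8,
  9, 8, 10, 11, 8, 9, 11, 9, 11, 9, 8, 10, 11, 9, 8, 10, 11, 10, 11, 10, 8, 11, 9, 8, 10, 8, 10, 8, 11, 9, 11, 9, 8,
  11, 9], [1, 3, 1, 3, 1], [9, 9, 1, 8, 1], [10, 2, 9, 9, 2], [1, 1, 1, 1, 1, 1, 1, 1, 1, 1], [1, 1, 1, 1, 1, 1, 1,
  1, 1, 1], [13, 13, 13, 5], [6, 13, 6, 13, 5, 13, 6, 14, 5, 14, 6, 14, 6, 13, 6, 13, 5, 13], [6, 7, 6, 7, 6], [16,
  8, 15, 8, 16, 8, 15, 8, 16, 8, 15], [8, 9, 16, 8, 9, 8, 17, 9, 8, 9, 8, 9, 16, 8]]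

def es : List (List ℕ × List ℕ) := [([18, 18, 18, 18, 18, 18, 18], []), ([10, 10], []), ([11, 18], [18, 11]), ([13,
  18], [18, 13]), ([12, 18], [18, 12]), ([8, 8, 8, 8, 8, 8, 8, 8, 8, 8, 8], []), ([7, 7, 7, 7, 7, 7, 7, 7, 7, 7, 7],
  []), ([4, 4, 4, 4, 4], []), ([18], [5, 8, 8, 7, 6, 5, 5, 8, 8]), ([10], [8, 8, 5, 5, 8, 8, 5, 5, 8, 8]), ([17],
  [18, 18, 18, 18, 18, 18]), ([8], [18, 18, 10, 17, 10]), ([7], [18, 10, 17, 17, 10]), ([6], [8, 8, 8, 8, 8, 8, 8,
  8, 8, 8]), ([5], [7, 7, 7, 7, 7, 7, 7, 7, 7, 7]), ([4], [18, 18, 18, 10]), ([3], [10, 17, 10, 17, 9, 17, 10, 18,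
  9, 18, 10, 18, 10, 17, 10, 17, 9, 17]), ([2], [9, 10, 9, 10, 9]), ([1], [18, 10, 17, 10, 18, 10, 17, 10, 18, 10,
  17]), ([0], [9, 10, 17, 9, 10, 9, 18, 10, 9, 10, 9, 10, 17, 9])]

def ns : List (List ℕ × List ℕ) := [([18], []), ([8], []), ([7], []), ([4], []), ([18, 10], [10, 18])]

theorem chk0 : check 112 codes ws es ns = true := by decide +kernel

/-- a vector fixed by `d, s, k` -/
def v : ℕ := 0x7ac13d2c5c7b57c6ac8841823024

theorem chkv : run 112 ws codes (invs v [([18], 1), ([10], 1), ([9], 1)]) = true := by decide +kernel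

/-- a coordinate -/
def cc : ℕ := 2 ^ (112 * 0)

theorem chkn0 : Nat.beq (F2Mat.mul 112 v cc) 0 = true := by decide +kernel

theorem chkn1 : Nat.beq (F2Mat.mul 112 (F2Mat.mul 112 v Cfsg.Agent.J4.RepData.X) cc) 0 = false := by decide +kernel

/-! ### The centralizer of `d` -/

def wsA : List (List ℕ) := [[], [0, 12], [1, 15], [2, 15], [2, 17], [3, 17], [3, 17], [4, 19], [4, 19], [4, 20], [5,
  22], [5, 22], [5, 25], [6, 25], [6, 25], [6, 28], [7, 28], [7, 30], [8, 30], [8, 30], [8, 33], [9, 33], [9, 33],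
  [10, 35], [10, 35], [10, 38], [11, 38], [11, 38], [12, 40], [12, 40], [12, 41], [13, 43], [13, 43], [13, 46], [14,
  46], [14, 46], [15, 48], [15, 48], [15, 51], [16, 51], [16, 51], [16, 54], [17, 54], [17, 54], [18, 56], [18, 56],
  [18, 59], [19, 59], [19, 59], [19, 62], [20, 62], [20, 64], [21, 64], [21, 64], [21, 67], [22, 67], [22, 67], [23,
  69], [23, 69], [23, 72], [24, 72], [24, 72], [24, 75], [25, 75], [25, 76], [25, 76], [25, 79], [26, 79], [26, 79],
  [27, 81], [27, 81], [27, 84], [28, 84], [28, 84], [28, 87], [29, 87], [29, 87], [30, 89], [30, 89], [30, 92], [31,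
  92], [31, 92], [32, 94], [29, 95], [29, 96], [28, 97], [28, 97], [28, 100], [28, 100], [27, 102], [24, 102], [24,
  103], [24, 103], [24, 105], [24, 105], [23, 107], [23, 107], [23, 110], [24, 110], [24, 110], [25, 112], [23,
  112], [23, 115], [23, 114], [24, 116], [23, 118], [22, 117], [22, 118], [22, 119], [22, 122], [23, 122], [23,
  122], [23, 123], [23, 124], [21, 127], [20, 128], [18, 128], [10, 130], [10, 131], [9, 131]]

/-- the indices of the generators -/
def gsA : List ℕ := [131, 133, 132]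

/-- the table of products, row by row -/
def tA : List (List ℕ) := [[3, 9, 10], [4, 12, 6], [5, 13, 7], [0, 21, 22], [1, 25, 16], [2, 27, 18], [30, 11, 1],
  [31, 8, 2], [32, 7, 13], [28, 0, 33], [15, 33, 0], [34, 6, 12], [35, 1, 11], [36, 2, 8], [24, 38, 32], [10, 39,
  40], [40, 23, 4], [22, 41, 30], [42, 20, 5], [29, 44, 45], [45, 18, 27], [26, 3, 46], [17, 46, 3], [47, 16, 25],
  [14, 47, 48], [50, 4, 23], [21, 36, 51], [52, 5, 20], [9, 52, 53], [19, 34, 54], [6, 58, 17], [7, 59, 60], [8, 61,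
  14], [62, 10, 9], [11, 29, 63], [12, 64, 65], [13, 26, 66], [64, 69, 70], [70, 14, 61], [59, 15, 71], [16, 71,
  15], [72, 17, 58], [18, 72, 73], [73, 67, 68], [57, 19, 74], [20, 74, 19], [75, 22, 21], [23, 24, 76], [67, 76,
  24], [77, 56, 57], [25, 77, 78], [78, 66, 26], [27, 28, 79], [65, 79, 28], [80, 63, 29], [60, 80, 81], [69, 49,
  82], [44, 82, 49], [83, 30, 41], [39, 31, 84], [55, 84, 31], [85, 32, 38], [33, 85, 86], [86, 54, 34], [37, 35,
  87], [53, 87, 35], [88, 51, 36], [48, 43, 89], [81, 89, 43], [56, 37, 90], [38, 90, 37], [91, 40, 39], [41, 42,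
  92], [43, 92, 42], [93, 45, 44], [46, 93, 94], [94, 48, 47], [49, 50, 95], [51, 95, 50], [96, 53, 52], [54, 55,
  97], [68, 97, 55], [98, 57, 56], [58, 98, 99], [99, 60, 59], [61, 62, 100], [63, 100, 62], [101, 65, 64], [66,
  101, 102], [102, 68, 67], [103, 70, 69], [71, 103, 104], [104, 73, 72], [74, 75, 105], [76, 105, 75], [106, 78,
  77], [79, 106, 107], [107, 81, 80], [82, 83, 108], [84, 108, 83], [109, 86, 85], [87, 88, 110], [89, 110, 88],
  [90, 91, 111], [92, 111, 91], [112, 94, 93], [95, 96, 113], [97, 113, 96], [114, 99, 98], [100, 114, 115], [115,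
  102, 101], [116, 104, 103], [105, 116, 117], [117, 107, 106], [108, 109, 118], [110, 118, 109], [111, 112, 119],
  [113, 119, 112], [119, 115, 114], [118, 117, 116]]

/-- the parents -/
def pA : List (ℕ × ℕ) := [(10, 2), (12, 1), (13, 1), (22, 2), (25, 1), (27, 1), (30, 0), (31, 0), (32, 0), (33, 2),
  (33, 1), (34, 0), (35, 0), (36, 0), (38, 1), (40, 2), (40, 0), (41, 1), (42, 0), (45, 2), (45, 0), (46, 2), (46,
  1), (47, 0), (48, 2), (50, 0), (51, 2), (52, 0), (53, 2), (54, 2), (58, 1), (60, 2), (61, 1), (62, 0), (63, 2),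
  (65, 2), (66, 2), (70, 2), (70, 0), (71, 2), (71, 1), (72, 0), (73, 2), (73, 0), (74, 2), (74, 1), (75, 0), (76,
  2), (76, 1), (77, 0), (78, 2), (78, 0), (79, 2), (79, 1), (80, 0), (81, 2), (82, 2), (82, 1), (83, 0), (84, 2),
  (84, 1), (85, 0), (86, 2), (86, 0), (87, 2), (87, 1), (88, 0), (89, 2), (89, 1), (90, 2), (90, 1), (91, 0), (92,
  2), (92, 1), (93, 0), (94, 2), (94, 0), (95, 2), (95, 1), (96, 0), (97, 2), (97, 1), (98, 0), (99, 2), (99, 0),
  (100, 2), (100, 1), (101, 0), (102, 2), (102, 0), (103, 0), (104, 2), (104, 0), (105, 2), (105, 1), (106, 0),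
  (107, 2), (107, 0), (108, 2), (108, 1), (109, 0), (110, 2), (110, 1), (111, 2), (111, 1), (112, 0), (113, 2),
  (113, 1), (114, 0), (115, 2), (115, 0), (116, 0), (117, 2), (117, 0), (118, 2), (118, 1), (119, 2), (119, 1),
  (119, 0), (0, 0)]

/-- the orders -/
def oA : List ℕ := [2, 3, 3, 2, 6, 6, 3, 3, 3, 4, 4, 3, 3, 3, 4, 5, 4, 4, 4, 2, 4, 5, 5, 4, 2, 4, 4, 4, 5, 4, 4, 4,
  4, 2, 4, 4, 4, 5, 4, 2, 3, 4, 3, 4, 5, 3, 3, 3, 5, 4, 3, 4, 3, 2, 4, 5, 2, 4, 6, 4, 4, 6, 3, 6, 4, 4, 6, 4, 2, 2,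
  5, 5, 2, 5, 5, 2, 5, 5, 2, 5, 5, 2, 2, 5, 6, 5, 5, 6, 5, 2, 3, 6, 5, 6, 6, 5, 6, 3, 3, 5, 2, 5, 3, 2, 6, 6, 6, 2,
  2, 6, 2, 6, 2, 6, 6, 6, 2, 2, 2, 1]

def tab (t : List (List ℕ)) (i j : ℕ) : ℕ := (t.getD i []).getD j 0

/-- the relations for the table -/
def esT (t : List (List ℕ)) (k : ℕ) (gs : List ℕ) : List (List ℕ × List ℕ) :=
  (List.range k).flatMap fun i => (List.range gs.length).map fun j => ([i, gs.getD j 0], [tab t i j])

/-- the check for the table and the parents -/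
def okT (t : List (List ℕ)) (p : List (ℕ × ℕ)) (k l : ℕ) : Bool :=
  (List.range k).all fun i => ((List.range l).all fun j => Nat.blt (tab t i j) k) &&
    (Nat.beq i (k - 1) || (Nat.blt i (p.getD i (0, 0)).1 && Nat.blt (p.getD i (0, 0)).1 k &&
      Nat.blt (p.getD i (0, 0)).2 l && Nat.beq (tab t (p.getD i (0, 0)).1 (p.getD i (0, 0)).2) i))

theorem okA : okT tA pA 120 3 = true := by decide +kernel

/-- inequalities in the centralizer of `d`; `130` is the index of `s` -/
def nsA : List (List ℕ × List ℕ) :=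
  ((List.range 119).map fun i => ([i, 130], [130, i])) ++
  (((List.range 119).map fun i => cond (Nat.beq (oA.getD i 0) 2) ([i, 130, i, 130], [130, i, 130, i]) ([i, i], [])) ++
  ((List.range 119).map fun i => cond (Nat.beq (oA.getD i 0) 3) ([i], []) ([i, i, i], [])))

theorem chkA : chk (ws ++ wsA) 120 (([119], []) :: esT tA 120 gsA) nsA = true := by decide +kernel

/-- for every element of order 3 a word with prime order `29, 31, 37` or `43` -/
def tT : List (ℕ × List ℕ × ℕ) := [(102, [138, 130, 138, 102, 102], 37), (98, [137, 129, 98, 98, 130], 43), (97,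
  [97, 130, 137, 130], 43), (90, [130, 137, 130, 90, 90], 31), (62, [62, 62, 130, 62, 62], 37), (52, [130, 129, 52,
  138], 43), (50, [130, 50, 138], 29), (47, [47, 130, 137], 37), (46, [46, 130, 46], 37), (45, [45, 130, 137], 29),
  (42, [130, 42, 138], 37), (40, [138, 40, 40, 130, 138], 31), (13, [130, 13, 137], 31), (12, [130, 138, 12], 31),
  (11, [129, 130, 11, 11], 43), (8, [8, 8, 130, 138], 31), (7, [129, 7, 7, 130], 43), (6, [137, 130, 6, 6], 31), (2,
  [130, 129, 2, 2], 43), (1, [130, 138, 1, 1], 43)]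

theorem okB : (List.range 119).all (fun i => !(Nat.beq (oA.getD i 0) 3) || tT.any fun x => Nat.beq x.1 i &&
    [29, 31, 37, 43].contains x.2.2 && x.2.1.all fun l => [i, 138, 137, 130, 129].contains l) = true := by decide +kernel

theorem chkB : check 112 codes (ws ++ wsA) (tT.map fun x => ((List.replicate x.2.2 x.2.1).flatten, []))
    (tT.map fun x => (x.2.1, [])) = true := by decide +kernel

/-! ### The 2-subgroup -/

def wsP : List (List ℕ) := [[], [0, 4], [1, 4], [2, 4], [3, 4], [3, 8], [4, 8], [5, 8], [6, 8], [6, 12], [7, 11],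
  [8, 11], [8, 15], [9, 13], [9, 17], [10, 16], [11, 16], [11, 20], [12, 20], [13, 20], [14, 20], [14, 24], [15,
  23], [16, 23], [16, 27], [17, 25], [17, 29], [18, 28], [19, 28], [19, 32], [20, 32], [21, 32], [22, 32], [22, 36],
  [23, 34], [23, 38], [24, 37], [25, 37], [25, 41], [26, 41], [27, 41], [28, 41], [28, 45], [29, 44], [30, 44], [30,
  48], [31, 48], [32, 48], [33, 48], [33, 52], [34, 50], [34, 51], [34, 54], [35, 54], [36, 54], [36, 58], [37, 57],
  [38, 57], [38, 61], [39, 59], [39, 63], [40, 62], [41, 62], [41, 66], [42, 66], [43, 66], [44, 66], [44, 70], [45,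
  68], [45, 72], [46, 71], [47, 71], [47, 75], [48, 75], [49, 75], [50, 75], [50, 79], [51, 78], [52, 78], [52, 82],
  [53, 82], [54, 82], [55, 82], [55, 86], [56, 84], [56, 85], [56, 89], [57, 88], [58, 88], [58, 92], [59, 91], [59,
  94], [60, 92], [60, 94], [61, 94], [61, 98], [62, 98], [63, 98], [63, 101], [64, 100], [65, 100], [65, 102], [65,
  105], [66, 103], [65, 107], [66, 105], [66, 107], [66, 110], [67, 108], [67, 112], [68, 110], [68, 114], [69,
  114], [70, 114], [70, 117], [71, 115], [70, 119], [71, 118], [71, 119], [71, 119], [71, 123], [72, 122], [72,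
  124], [73, 124], [73, 124], [72, 128], [73, 127], [74, 127], [74, 131], [75, 129], [75, 133], [76, 132], [77,
  132], [77, 135], [78, 135], [78, 138], [79, 136], [79, 140], [80, 139], [80, 142], [81, 142], [82, 142], [82,
  145], [83, 144], [84, 144], [84, 145], [84, 149], [85, 147], [84, 151], [85, 150], [84, 153], [85, 151], [85,
  153], [86, 153], [86, 157], [87, 157], [88, 157], [88, 158], [89, 158], [89, 160], [89, 163], [90, 161], [89,
  162], [89, 164], [89, 167], [90, 165], [90, 169], [91, 167], [91, 171], [92, 171], [93, 171], [93, 171], [92,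
  175], [93, 174], [93, 175], [93, 175], [93, 177], [93, 179], [94, 179], [94, 179], [93, 180], [93, 184], [94,
  182], [94, 184], [94, 185], [93, 186], [94, 186], [94, 188], [95, 188], [95, 189], [95, 190], [95, 191], [95,
  193], [95, 196], [94, 197], [95, 195], [93, 197], [92, 198], [90, 201], [90, 202], [91, 200], [91, 202], [90,
  203], [88, 205], [82, 207], [82, 206], [82, 209], [81, 208], [81, 211], [82, 209], [81, 212], [82, 212], [82,
  215], [83, 213], [82, 217], [80, 218], [80, 219], [81, 219], [82, 219], [82, 220], [82, 221], [82, 221], [81,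
  223], [81, 226], [82, 224], [82, 228], [83, 228], [83, 227], [82, 229], [82, 231], [83, 231], [82, 231], [81,
  233], [81, 234], [80, 234], [80, 235], [79, 239], [79, 240], [80, 238], [78, 240], [75, 243], [75, 244], [76,
  242], [74, 244], [66, 245], [62, 246], [62, 249], [61, 247], [60, 248], [40, 250], [39, 251], [38, 254], [36,
  253], [36, 253], [34, 257], [25, 256]]

/-- the indices of the generators -/
def gsP : List ℕ := [259, 258, 257, 256]

/-- the table of products, row by row -/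
def tP : List (List ℕ) := [[16, 25, 26, 158], [11, 14, 9, 149], [137, 30, 18, 48], [7, 15, 40, 18], [131, 9, 14,
  165], [149, 44, 45, 16], [17, 32, 47, 156], [70, 55, 66, 1], [0, 53, 64, 92], [81, 4, 1, 224], [68, 49, 73, 99],
  [59, 77, 78, 6], [90, 61, 87, 114], [58, 70, 88, 53], [54, 1, 4, 215], [84, 3, 80, 56], [52, 54, 95, 3], [99, 84,
  94, 0], [50, 56, 2, 5], [6, 58, 74, 50], [103, 87, 61, 121], [65, 83, 69, 234], [98, 90, 104, 70], [3, 57, 105,
  61], [75, 85, 86, 130], [77, 0, 109, 63], [96, 109, 0, 233], [100, 67, 110, 4], [114, 62, 108, 49], [221, 113, 65,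
  216], [82, 2, 56, 116], [53, 59, 93, 57], [55, 6, 51, 212], [5, 114, 115, 59], [121, 108, 62, 72], [2, 76, 118,
  222], [1, 112, 119, 62], [60, 91, 120, 52], [211, 120, 91, 124], [216, 79, 107, 2], [97, 80, 3, 86], [214, 73, 49,
  236], [80, 106, 123, 206], [4, 69, 83, 231], [63, 5, 127, 54], [233, 127, 5, 81], [117, 126, 52, 106], [67, 51, 6,
  219], [66, 116, 130, 95], [25, 10, 41, 148], [22, 132, 133, 37], [177, 47, 32, 240], [8, 141, 46, 19], [147, 8,
  144, 181], [12, 16, 146, 15], [28, 7, 145, 14], [31, 18, 30, 44], [140, 23, 136, 12], [44, 19, 151, 132], [36, 31,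
  153, 23], [158, 140, 152, 11], [10, 12, 20, 33], [37, 28, 34, 10], [13, 158, 159, 178], [162, 144, 8, 190], [24,
  139, 29, 246], [168, 145, 7, 29], [182, 27, 161, 9], [156, 147, 163, 7], [187, 43, 21, 182], [23, 13, 164, 8],
  [38, 160, 166, 144], [9, 138, 167, 188], [35, 41, 10, 199], [48, 151, 19, 154], [21, 142, 143, 200], [242, 35,
  170, 159], [132, 11, 172, 32], [154, 172, 11, 245], [159, 39, 173, 30], [27, 40, 15, 179], [133, 174, 175, 40],
  [196, 154, 176, 38], [247, 21, 43, 191], [181, 17, 171, 25], [201, 24, 179, 135], [46, 179, 24, 45], [138, 20, 12,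
  183], [134, 164, 13, 43], [240, 163, 147, 27], [14, 22, 150, 13], [15, 37, 38, 141], [33, 181, 182, 22], [194,
  153, 31, 134], [190, 171, 17, 35], [143, 146, 16, 39], [20, 131, 186, 47], [34, 177, 184, 26], [18, 178, 187, 17],
  [19, 148, 188, 36], [42, 188, 148, 194], [45, 134, 169, 20], [203, 166, 160, 21], [26, 180, 189, 164], [29, 150,
  22, 160], [155, 136, 23, 143], [152, 42, 192, 133], [249, 173, 39, 24], [202, 34, 28, 138], [174, 26, 25, 248],
  [191, 161, 27, 139], [136, 168, 193, 41], [178, 36, 196, 28], [30, 29, 139, 243], [32, 33, 197, 31], [245, 197,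
  33, 137], [171, 48, 135, 146], [163, 194, 198, 34], [244, 170, 35, 249], [185, 196, 36, 168], [39, 38, 37, 157],
  [40, 183, 200, 153], [173, 200, 183, 241], [239, 192, 42, 176], [41, 157, 201, 151], [170, 189, 180, 166], [43,
  46, 141, 42], [165, 45, 44, 174], [167, 201, 157, 192], [47, 202, 203, 46], [184, 135, 48, 175], [126, 96, 204,
  51], [49, 50, 206, 91], [72, 206, 50, 129], [51, 101, 207, 87], [110, 130, 116, 229], [79, 105, 57, 213], [73,
  208, 209, 105], [230, 72, 210, 100], [251, 65, 113, 225], [215, 60, 205, 77], [112, 52, 126, 58], [235, 75, 213,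
  122], [119, 213, 75, 115], [76, 64, 53, 217], [71, 66, 55, 113], [124, 95, 54, 79], [56, 68, 89, 55], [57, 99,
  100, 112], [92, 215, 216, 68], [228, 104, 90, 71], [252, 74, 58, 82], [224, 205, 60, 96], [69, 93, 59, 101], [64,
  82, 220, 120], [94, 211, 218, 78], [61, 212, 221, 60], [104, 124, 128, 74], [62, 63, 222, 98], [111, 222, 63,
  228], [115, 71, 102, 64], [237, 110, 67, 65], [78, 214, 223, 66], [86, 89, 68, 67], [106, 88, 70, 69], [108, 224,
  225, 89], [122, 102, 71, 83], [232, 210, 72, 237], [74, 111, 226, 73], [253, 207, 101, 75], [85, 118, 76, 254],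
  [236, 94, 84, 76], [208, 78, 77, 252], [225, 107, 79, 85], [93, 81, 229, 80], [209, 229, 81, 107], [83, 220, 82,
  238], [88, 97, 227, 109], [212, 98, 230, 84], [87, 86, 85, 127], [89, 103, 125, 88], [91, 92, 231, 90], [129, 231,
  92, 103], [205, 121, 122, 93], [102, 227, 97, 118], [95, 228, 232, 94], [128, 204, 96, 253], [219, 230, 98, 97],
  [101, 100, 99, 117], [223, 125, 103, 102], [105, 217, 234, 104], [207, 234, 217, 125], [107, 123, 106, 220], [123,
  226, 111, 210], [109, 117, 235, 108], [204, 223, 214, 110], [113, 119, 112, 111], [116, 115, 114, 208], [118, 235,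
  117, 226], [120, 236, 237, 119], [218, 122, 121, 209], [125, 128, 124, 123], [127, 129, 238, 126], [130, 238, 129,
  128], [142, 186, 131, 255], [248, 152, 140, 131], [180, 133, 132, 202], [135, 169, 134, 142], [150, 137, 241,
  136], [189, 241, 137, 169], [139, 167, 138, 250], [145, 155, 239, 172], [141, 156, 242, 140], [144, 143, 142,
  197], [146, 162, 195, 145], [148, 149, 243, 147], [199, 243, 149, 162], [151, 190, 191, 150], [161, 239, 155,
  186], [153, 240, 244, 152], [198, 176, 154, 203], [157, 242, 156, 155], [160, 159, 158, 185], [175, 195, 162,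
  161], [164, 165, 246, 163], [166, 246, 165, 195], [169, 193, 168, 167], [193, 184, 177, 170], [172, 185, 247,
  171], [176, 175, 174, 173], [179, 187, 178, 177], [183, 182, 181, 180], [186, 247, 185, 184], [188, 248, 249,
  187], [192, 191, 190, 189], [195, 198, 194, 193], [197, 199, 250, 196], [200, 250, 199, 198], [255, 203, 202,
  201], [227, 218, 211, 204], [206, 219, 251, 205], [210, 209, 208, 207], [213, 221, 212, 211], [217, 216, 215,
  214], [220, 251, 219, 218], [222, 252, 253, 221], [226, 225, 224, 223], [229, 232, 228, 227], [231, 233, 254,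
  230], [234, 254, 233, 232], [238, 237, 236, 235], [241, 244, 240, 239], [243, 245, 255, 242], [246, 255, 245,
  244], [250, 249, 248, 247], [254, 253, 252, 251]]

/-- the parents -/
def pP : List (ℕ × ℕ) := [(26, 2), (36, 0), (39, 3), (40, 2), (43, 0), (45, 2), (47, 2), (68, 3), (70, 3), (72, 0),
  (73, 2), (78, 2), (87, 2), (90, 3), (90, 0), (91, 0), (95, 2), (98, 3), (98, 0), (99, 0), (101, 3), (102, 3),
  (104, 2), (105, 2), (107, 3), (109, 2), (109, 1), (110, 2), (112, 3), (113, 1), (113, 0), (114, 3), (114, 0),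
  (115, 2), (117, 3), (118, 2), (119, 2), (120, 2), (120, 1), (120, 0), (121, 0), (124, 0), (126, 3), (126, 0),
  (127, 2), (127, 1), (129, 3), (129, 0), (130, 2), (132, 0), (133, 2), (134, 0), (141, 1), (144, 2), (146, 2),
  (147, 3), (147, 0), (148, 0), (151, 2), (153, 2), (156, 3), (156, 0), (158, 0), (159, 2), (160, 3), (161, 3),
  (162, 3), (163, 3), (163, 2), (164, 3), (164, 2), (166, 2), (167, 2), (168, 3), (168, 0), (169, 3), (171, 3),
  (172, 2), (172, 1), (173, 2), (174, 3), (175, 2), (176, 2), (176, 0), (178, 3), (179, 2), (179, 1), (179, 0),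
  (180, 3), (180, 0), (181, 3), (181, 0), (182, 2), (183, 3), (185, 3), (185, 0), (186, 2), (187, 3), (187, 2),
  (188, 2), (188, 1), (188, 0), (189, 3), (189, 2), (190, 3), (190, 0), (192, 2), (192, 0), (194, 3), (194, 0),
  (195, 3), (196, 3), (196, 2), (196, 0), (197, 2), (197, 1), (197, 0), (198, 2), (198, 0), (199, 3), (199, 0),
  (200, 2), (200, 1), (201, 3), (201, 2), (201, 0), (202, 3), (202, 0), (203, 3), (203, 2), (203, 0), (205, 3),
  (206, 2), (206, 1), (207, 2), (207, 0), (208, 3), (209, 2), (210, 2), (210, 0), (212, 3), (212, 0), (213, 2),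
  (213, 1), (213, 0), (214, 3), (214, 0), (215, 3), (215, 0), (216, 2), (217, 3), (217, 0), (219, 3), (219, 0),
  (220, 2), (221, 3), (221, 2), (221, 0), (222, 2), (222, 1), (222, 0), (223, 3), (223, 2), (224, 3), (224, 0),
  (225, 2), (225, 0), (226, 3), (226, 2), (226, 0), (227, 3), (228, 3), (228, 0), (229, 3), (229, 2), (229, 1),
  (229, 0), (230, 3), (230, 2), (230, 0), (231, 3), (231, 2), (231, 1), (231, 0), (232, 3), (232, 2), (232, 0),
  (233, 3), (233, 0), (234, 3), (234, 2), (234, 1), (234, 0), (235, 3), (235, 2), (235, 0), (236, 3), (236, 0),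
  (237, 3), (237, 2), (237, 0), (238, 3), (238, 2), (238, 1), (239, 3), (240, 3), (240, 0), (241, 3), (241, 2),
  (241, 1), (241, 0), (242, 3), (242, 2), (242, 0), (243, 3), (243, 2), (243, 1), (243, 0), (244, 3), (244, 2),
  (244, 0), (245, 3), (245, 0), (246, 3), (246, 2), (246, 1), (246, 0), (247, 3), (247, 2), (247, 0), (248, 3),
  (248, 0), (249, 3), (249, 2), (249, 0), (250, 3), (250, 2), (250, 1), (250, 0), (251, 3), (251, 2), (251, 0),
  (252, 3), (252, 0), (253, 3), (253, 2), (253, 0), (254, 3), (254, 2), (254, 1), (254, 0), (255, 3), (255, 2),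
  (255, 1), (255, 0), (0, 0)]

theorem okP : okT tP pP 256 4 = true := by decide +kernel

theorem chkP : chk (ws ++ wsP) 256 (([255], []) :: esT tP 256 gsP) [] = true := by decide +kernel

end Cfsg.Agent.H935.J4Max.M22Data
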