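import Cfsg.Agent.H935.J4Max.M22Main
import Cfsg.Agent.H935.J4Max.M22Data

/-!
# The maximal subgroup `Aut(M₂₂)` of `J₄` (helper935)
-/

set_option autoImplicit false

namespace Cfsg.Agent.H935.J4Max.M22Fin

open Cfsg Subgroup
open Cfsg.Agent.Lib Cfsg.Agent.Lib.F2MatGroup Cfsg.Agent.H935.J4Max.Eval
open Cfsg.Agent.H935.J4Max.ListCl Cfsg.Agent.H935.J4Max.M22Data
open Cfsg.Agent.H935.J4Max.M22Abs

/-! ### Transport of the data -/

theorem map_data {G : Type*} {H : Type*} [Group G] [Group H] (D : Data G) (e : G ≃* H) : Nonempty (Data H) := by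
  have hc : ∀ S : Set G, ∀ x ∈ closure S, e x ∈ closure (e '' S) := fun S x hx => by
    have h1 : e x ∈ (closure S).map e.toMonoidHom := ⟨x, hx, rfl⟩
    rw [MonoidHom.map_closure] at h1
    exact h1
  have hK : ∀ x : G, x ∈ D.K → e x ∈ D.K.map e.toMonoidHom := fun x hx => ⟨x, hx, rfl⟩
  refine ⟨⟨e D.d, e D.s, e D.b1, e D.b2, e D.f, D.K.map e.toMonoidHom, ?_, hK _ D.d_mem, hK _ D.b1_mem,
    hK _ D.b2_mem, hK _ D.f_mem, ?_, ?_, ?_, ?_, ?_, ?_, ?_, ?_, ?_, ?_⟩⟩
  · intro h
    apply D.ne_top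
    apply Subgroup.map_injective (f := e.toMonoidHom) e.injective
    rw [h]
    exact (Subgroup.map_top_of_surjective _ e.surjective).symm
  · rw [MulEquiv.orderOf_eq, D.order_d]
  · rw [MulEquiv.orderOf_eq, D.order_b1]
  · rw [MulEquiv.orderOf_eq, D.order_b2]
  · rw [MulEquiv.orderOf_eq, D.order_f]
  · have := hc _ _ D.d_gen
    rwa [Set.image_pair] at this
  · have := hc _ _ D.s_gen
    rwa [Set.image_pair] at this
  · intro y h1 h2 h3
    obtain ⟨x, rfl⟩ := e.surjective y
    rw [← map_mul, ← map_mul] at h1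
    rw [← map_mul] at h2
    obtain ⟨k, hk, h4⟩ := D.inv x (e.injective h1) (e.injective (h2.trans (map_one e).symm))
      (fun h => h3 (by rw [h, map_one]))
    refine ⟨e k, hK _ hk, fun h => h4 (e.injective ?_)⟩
    simpa only [map_mul, map_inv] using h
  · intro y h1 h2
    obtain ⟨x, rfl⟩ := e.surjective y
    rw [← map_mul, ← map_mul] at h1 h2
    rw [D.cent x (e.injective h1) (e.injective h2), map_one]
  · intro y h1 h2
    obtain ⟨x, rfl⟩ := e.surjective y
    rw [← map_mul, ← map_mul] at h1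
    rw [MulEquiv.orderOf_eq] at h2
    obtain ⟨w, hw, h3⟩ := D.three x (e.injective h1) h2
    refine ⟨e w, ?_, by rwa [MulEquiv.orderOf_eq]⟩
    have h4 : e w ∈ (D.K ⊔ zpowers x).map e.toMonoidHom := ⟨w, hw, rfl⟩
    rw [Subgroup.map_sup, MonoidHom.map_zpowers] at h4
    exact h4
  · rw [Subgroup.card_map_of_injective (f := e.toMonoidHom) e.injective]
    exact D.sylow

/-! ### Elements -/

theorem E_cons (ws : List (List ℕ)) (i : ℕ) (w : List ℕ) : E ws (i :: w) = E ws [i] * E ws w := by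
  unfold E
  rw [evG_cons, evG_cons, evG_nil, mul_one]

theorem E_nil (ws : List (List ℕ)) : E ws [] = 1 := rfl

theorem E_two (ws : List (List ℕ)) (i j : ℕ) : E ws [i, j] = E ws [i] * E ws [j] := E_cons ws i [j]

theorem E_three (ws : List (List ℕ)) (i j k : ℕ) : E ws [i, j, k] = E ws [i] * (E ws [j] * E ws [k]) := by
  rw [E_cons ws i [j, k], E_two]

theorem E_four (ws : List (List ℕ)) (i j k l : ℕ) :
    E ws [i, j, k, l] = E ws [i] * (E ws [j] * (E ws [k] * E ws [l])) := by
  rw [E_cons ws i [j, k, l], E_three]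

theorem E_one (ws : List (List ℕ)) (i : ℕ) : E ws [i] = getG (LJ ws) i := by
  unfold E
  rw [evG_cons, evG_nil, mul_one]

theorem E_append (ws : List (List ℕ)) (w w' : List ℕ) : E ws (w ++ w') = E ws w * E ws w' := by
  induction w with
  | nil => rw [List.nil_append, E_nil, one_mul]
  | cons i w ih => rw [List.cons_append, E_cons, E_cons ws i w, ih, mul_assoc]

theorem E_pow (ws : List (List ℕ)) (w : List ℕ) (n : ℕ) : E ws (List.replicate n w).flatten = E ws w ^ n := by
  induction n with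
  | zero => rw [List.replicate_zero, List.flatten_nil, E_nil, pow_zero]
  | succ n ih => rw [List.replicate_succ, List.flatten_cons, E_append, ih, pow_succ']

theorem E_mem {ws : List (List ℕ)} {H : Subgroup Spor.J4} {w : List ℕ} (h : ∀ i ∈ w, E ws [i] ∈ H) :
    E ws w ∈ H := by
  induction w with
  | nil => exact H.one_mem
  | cons i w ih =>
    rw [E_cons]
    exact H.mul_mem (h i List.mem_cons_self) (ih fun j hj => h j (List.mem_cons_of_mem _ hj))

/-! ### The centralizer `7 × S₅` -/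

section cover

variable {G : Type*} [Group G] [Finite G] {d : G} (hd : orderOf d = 7)
  (hC : Nat.card (centralizer (zpowers d : Set G)) = 840) {S : Subgroup G} (hS : Nat.card S = 120)
  (hSC : S ≤ centralizer (zpowers d : Set G))

include hd hS in
theorem eq_one_of_mem {a : G} (h1 : a ∈ zpowers d) (h2 : a ∈ S) : a = 1 := by
  have h3 : (zpowers d) ⊓ S = ⊥ := by
    rw [← disjoint_iff]
    apply Subgroup.disjoint_of_coprime_natCard
    rw [Nat.card_zpowers, hd, hS]
    norm_num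
  have h4 : a ∈ zpowers d ⊓ S := ⟨h1, h2⟩
  rw [h3] at h4
  exact mem_bot.1 h4

include hd hC hS hSC in
theorem cover {x : G} (hx : x * d = d * x) : ∃ a ∈ zpowers d, ∃ b ∈ S, a * b = b * a ∧ x = a * b := by
  have hcomm : ∀ a ∈ zpowers d, ∀ b ∈ S, a * b = b * a := fun a ha b hb =>
    (mem_centralizer_iff.1 (hSC hb)) a ha
  have hzC : zpowers d ≤ centralizer (zpowers d : Set G) := by
    intro a ha
    rw [mem_centralizer_iff]
    intro b hb
    obtain ⟨m, rfl⟩ := ha
    obtain ⟨n, rfl⟩ := hb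
    exact ((Commute.refl d).zpow_zpow n m).eq
  let f : (zpowers d) × S → centralizer (zpowers d : Set G) := fun p =>
    ⟨(p.1 : G) * p.2, Subgroup.mul_mem _ (hzC p.1.2) (hSC p.2.2)⟩
  have hf : Function.Injective f := by
    rintro ⟨a, b⟩ ⟨a', b'⟩ h
    have h1 : (a : G) * b = a' * b' := congrArg Subtype.val h
    have h2 : ((a' : G))⁻¹ * a = b' * (b : G)⁻¹ := by
      rw [inv_mul_eq_iff_eq_mul, ← mul_assoc, eq_mul_inv_iff_mul_eq, h1]
    have h3 : ((a' : G))⁻¹ * a = 1 :=
      eq_one_of_mem hd hS (mul_mem (inv_mem a'.2) a.2) (h2 ▸ mul_mem b'.2 (inv_mem b.2))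
    have h4 : (b' : G) * (b : G)⁻¹ = 1 := h2 ▸ h3
    have h5 : a = a' := Subtype.ext (inv_mul_eq_one.1 h3).symm
    have h6 : b = b' := Subtype.ext (mul_inv_eq_one.1 h4).symm
    rw [h5, h6]
  have hb : Function.Bijective f := (Nat.bijective_iff_injective_and_card f).2
    ⟨hf, by rw [Nat.card_prod, Nat.card_zpowers, hd, hS, hC]⟩
  have hxC : x ∈ centralizer (zpowers d : Set G) := by
    rw [mem_centralizer_iff]
    rintro _ ⟨n, rfl⟩
    exact ((show Commute d x from hx.symm).zpow_left n).eq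
  obtain ⟨⟨a, b⟩, h⟩ := hb.2 ⟨x, hxC⟩
  exact ⟨a, a.2, b, b.2, hcomm _ a.2 _ b.2, (congrArg Subtype.val h).symm⟩

include hd hC hS hSC in
theorem mem_of_pow {x : G} (hx : x * d = d * x) {n : ℕ} (hn : x ^ n = 1) (hc : Nat.Coprime 7 n) : x ∈ S := by
  obtain ⟨a, ha, b, hb, hab, rfl⟩ := cover hd hC hS hSC hx
  rw [(show Commute a b from hab).mul_pow] at hn
  have h1 : a ^ n = 1 := by
    refine eq_one_of_mem hd hS (pow_mem ha n) ?_
    rw [mul_eq_one_iff_eq_inv.1 hn]
    exact inv_mem (pow_mem hb n)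
  have h2 : orderOf a ∣ 7 := by
    have := orderOf_dvd_natCard (⟨a, ha⟩ : zpowers d)
    rwa [Subgroup.orderOf_mk, Nat.card_zpowers, hd] at this
  have h3 : a = 1 := orderOf_eq_one_iff.1 (Nat.eq_one_of_dvd_coprimes hc h2 (orderOf_dvd_of_pow_eq_one h1))
  rw [h3, one_mul]
  exact hb

include hd hC hS hSC in
theorem mem_of_comm {x s : G} (hx : x * d = d * x) (hs : x * s = s * x) (hds : d * s ≠ s * d) : x ∈ S := by
  obtain ⟨a, ha, b, hb, hab, rfl⟩ := cover hd hC hS hSC hx
  have h0 : orderOf a ∣ 7 := by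
    have := orderOf_dvd_natCard (⟨a, ha⟩ : zpowers d)
    rwa [Subgroup.orderOf_mk, Nat.card_zpowers, hd] at this
  have h1 : (a * b) ^ 120 = a := by
    rw [(show Commute a b from hab).mul_pow]
    have h2 : b ^ 120 = 1 := by
      have := pow_card_eq_one' (x := (⟨b, hb⟩ : S))
      rw [hS] at this
      exact congrArg Subtype.val this
    have h3 : a ^ 7 = 1 := orderOf_dvd_iff_pow_eq_one.1 h0
    rw [h2, mul_one, show 120 = 7 * 17 + 1 by norm_num, pow_succ, pow_mul, h3, one_pow, one_mul]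
  have h2 : a * s = s * a := by
    rw [← h1]
    exact ((show Commute (a * b) s from hs).pow_left 120).eq
  have h3 : a = 1 := by
    rcases (Nat.dvd_prime (by norm_num)).1 h0 with h4 | h4
    · exact orderOf_eq_one_iff.1 h4
    · exfalso
      have h5 : zpowers a = zpowers d := Subgroup.eq_of_le_of_card_ge (zpowers_le.2 ha) (by
        rw [Nat.card_zpowers, Nat.card_zpowers, hd, h4])
      have h6 : d ∈ zpowers a := h5 ▸ mem_zpowers d
      obtain ⟨n, rfl⟩ := h6
      exact hds ((show Commute a s from h2).zpow_left n).eq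
  rw [h3, one_mul]
  exact hb

end cover

/-! ### The facts from the checks -/

theorem c0 : (∀ p ∈ es, E ws p.1 = E ws p.2) ∧ (∀ p ∈ ns, E ws p.1 ≠ E ws p.2) := check_J chk0

theorem cA : ((LJ (ws ++ wsA)).take 120).Nodup ∧
    (∀ p ∈ (([119], []) : List ℕ × List ℕ) :: esT tA 120 gsA, E (ws ++ wsA) p.1 = E (ws ++ wsA) p.2) ∧
    (∀ p ∈ nsA, E (ws ++ wsA) p.1 ≠ E (ws ++ wsA) p.2) := chk_sound chkA

theorem cP : ((LJ (ws ++ wsP)).take 256).Nodup ∧
    (∀ p ∈ (([255], []) : List ℕ × List ℕ) :: esT tP 256 gsP, E (ws ++ wsP) p.1 = E (ws ++ wsP) p.2) ∧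
    (∀ p ∈ ([] : List (List ℕ × List ℕ)), E (ws ++ wsP) p.1 ≠ E (ws ++ wsP) p.2) := chk_sound chkP

theorem cB : (∀ p ∈ tT.map (fun x => (((List.replicate x.2.2 x.2.1).flatten, []) : List ℕ × List ℕ)),
      E (ws ++ wsA) p.1 = E (ws ++ wsA) p.2) ∧
    (∀ p ∈ tT.map (fun x => ((x.2.1, []) : List ℕ × List ℕ)), E (ws ++ wsA) p.1 ≠ E (ws ++ wsA) p.2) :=
  check_J chkB

theorem es_get {es : List (List ℕ × List ℕ)} {ws : List (List ℕ)} (h : ∀ p ∈ es, E ws p.1 = E ws p.2) {a b : List ℕ}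
    (i : ℕ) (hi : es[i]? = some (a, b)) : E ws a = E ws b :=
  h (a, b) (List.mem_of_getElem? hi)

theorem ns_get {es : List (List ℕ × List ℕ)} {ws : List (List ℕ)} (h : ∀ p ∈ es, E ws p.1 ≠ E ws p.2) {a b : List ℕ}
    (i : ℕ) (hi : es[i]? = some (a, b)) : E ws a ≠ E ws b :=
  h (a, b) (List.mem_of_getElem? hi)

theorem order_of {ws : List (List ℕ)} {w w' : List ℕ} {p : ℕ} (hp : p.Prime) (h1 : E ws w' = E ws [])
    (hw : (List.replicate p w).flatten = w') (h2 : E ws w ≠ E ws []) : orderOf (E ws w) = p := by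
  have : Fact p.Prime := ⟨hp⟩
  refine orderOf_eq_prime ?_ h2
  rw [← E_pow, hw, h1]
  rfl

theorem order_d : orderOf (E ws [18]) = 7 := order_of (by norm_num) (es_get c0.1 0 rfl) rfl (ns_get c0.2 0 rfl)
theorem order_b1 : orderOf (E ws [8]) = 11 := order_of (by norm_num) (es_get c0.1 5 rfl) rfl (ns_get c0.2 1 rfl)
theorem order_b2 : orderOf (E ws [7]) = 11 := order_of (by norm_num) (es_get c0.1 6 rfl) rfl (ns_get c0.2 2 rfl)
theorem order_f : orderOf (E ws [4]) = 5 := order_of (by norm_num) (es_get c0.1 7 rfl) rfl (ns_get c0.2 3 rfl)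

theorem ds_ne : E ws [18] * E ws [10] ≠ E ws [10] * E ws [18] := by
  have h := ns_get c0.2 (a := [18, 10]) (b := [10, 18]) 4 rfl
  rwa [E_two, E_two] at h

/-- the subgroup -/
noncomputable def K : Subgroup Spor.J4 := closure {E ws [18], E ws [10], E ws [9]}

theorem d_mem : E ws [18] ∈ K := subset_closure (Or.inl rfl)
theorem s_mem : E ws [10] ∈ K := subset_closure (Or.inr (Or.inl rfl))
theorem k_mem : E ws [9] ∈ K := subset_closure (Or.inr (Or.inr rfl))

theorem D_mem : E ws [17] ∈ K := by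
  rw [es_get c0.1 10 rfl]
  refine E_mem fun i hi => ?_
  simp only [List.mem_cons, List.not_mem_nil, or_false, or_self] at hi
  rw [hi]; exact d_mem

theorem E_memK {w : List ℕ} (h : w.all (fun i => [18, 17, 10, 9].contains i) = true) : E ws w ∈ K := by
  refine E_mem fun i hi => ?_
  have h1 := List.all_eq_true.1 h i hi
  simp only [List.contains_iff_mem, List.mem_cons, List.not_mem_nil, or_false] at h1
  rcases h1 with rfl | rfl | rfl | rfl
  · exact d_mem
  · exact D_mem
  · exact s_mem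
  · exact k_mem

theorem b1_mem : E ws [8] ∈ K := by rw [es_get c0.1 11 rfl]; exact E_memK (by decide)
theorem b2_mem : E ws [7] ∈ K := by rw [es_get c0.1 12 rfl]; exact E_memK (by decide)
theorem f_mem : E ws [4] ∈ K := by rw [es_get c0.1 15 rfl]; exact E_memK (by decide)
theorem p0_mem : E ws [3] ∈ K := by rw [es_get c0.1 16 rfl]; exact E_memK (by decide)
theorem p1_mem : E ws [2] ∈ K := by rw [es_get c0.1 17 rfl]; exact E_memK (by decide)
theorem p2_mem : E ws [1] ∈ K := by rw [es_get c0.1 18 rfl]; exact E_memK (by decide)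
theorem p3_mem : E ws [0] ∈ K := by rw [es_get c0.1 19 rfl]; exact E_memK (by decide)

theorem B1_gen : E ws [6] ∈ closure {E ws [8], E ws [7]} := by
  rw [es_get c0.1 13 rfl]
  refine E_mem fun i hi => ?_
  simp only [List.mem_cons, List.not_mem_nil, or_false, or_self] at hi
  rw [hi]; exact subset_closure (Or.inl rfl)

theorem B2_gen : E ws [5] ∈ closure {E ws [8], E ws [7]} := by
  rw [es_get c0.1 14 rfl]
  refine E_mem fun i hi => ?_
  simp only [List.mem_cons, List.not_mem_nil, or_false, or_self] at hi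
  rw [hi]; exact subset_closure (Or.inr rfl)

theorem E_gen {w : List ℕ} (h : w.all (fun i => [8, 7, 6, 5].contains i) = true) :
    E ws w ∈ closure {E ws [8], E ws [7]} := by
  refine E_mem fun i hi => ?_
  have h1 := List.all_eq_true.1 h i hi
  simp only [List.contains_iff_mem, List.mem_cons, List.not_mem_nil, or_false] at h1
  rcases h1 with rfl | rfl | rfl | rfl
  · exact subset_closure (Or.inl rfl)
  · exact subset_closure (Or.inr rfl)
  · exact B1_gen
  · exact B2_gen

theorem d_gen : E ws [18] ∈ closure {E ws [8], E ws [7]} := by rw [es_get c0.1 8 rfl]; exact E_gen (by decide)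
theorem s_gen : E ws [10] ∈ closure {E ws [8], E ws [7]} := by rw [es_get c0.1 9 rfl]; exact E_gen (by decide)

theorem K_ne : K ≠ ⊤ := by
  intro h
  have h1 : K ≤ Stab (F2Mat.toMat 112 v) := by
    unfold K
    rw [closure_le]
    have h2 := invs_sound chkv
    rintro _ (rfl | rfl | rfl)
    · exact h2 ([18], 1) (by simp)
    · exact h2 ([10], 1) (by simp)
    · exact h2 ([9], 1) (by simp)
  have h2 : getG Cfsg.Agent.J4.Rep112.gens 0 ∉ Stab (F2Mat.toMat 112 v) := by
    have h3 := codes_get Cfsg.Agent.J4.Rep112.codes_gens 0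
    rw [getG_map] at h3
    change Codes 112 (Cfsg.Agent.J4.Rep112.rho (getG Cfsg.Agent.J4.Rep112.gens 0)) Cfsg.Agent.J4.RepData.X at h3
    exact not_mem_stab (Cc := cc) h3 chkn0 chkn1
  rw [h, top_le_iff] at h1
  rw [h1] at h2
  exact h2 (mem_top _)

/-! ### The tables -/

theorem esT_mem {t : List (List ℕ)} {k : ℕ} {gs : List ℕ} {i j : ℕ} (hi : i < k) (hj : j < gs.length) :
    (([i, gs.getD j 0], [tab t i j]) : List ℕ × List ℕ) ∈ esT t k gs := by
  unfold esT
  rw [List.mem_flatMap]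
  exact ⟨i, List.mem_range.2 hi, List.mem_map.2 ⟨j, List.mem_range.2 hj, rfl⟩⟩

theorem okT_spec {t : List (List ℕ)} {p : List (ℕ × ℕ)} {k l : ℕ} (h : okT t p k l = true) :
    (∀ i < k, ∀ j < l, tab t i j < k) ∧
      (∀ i < k, i = k - 1 ∨ ∃ i' < k, i < i' ∧ ∃ j < l, tab t i' j = i) := by
  unfold okT at h
  rw [List.all_eq_true] at h
  constructor
  · intro i hi j hj
    have h1 := h i (List.mem_range.2 hi)
    rw [Bool.and_eq_true] at h1
    have h2 := List.all_eq_true.1 h1.1 j (List.mem_range.2 hj)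
    exact Nat.blt_eq.mp h2
  · intro i hi
    have h1 := h i (List.mem_range.2 hi)
    rw [Bool.and_eq_true, Bool.or_eq_true] at h1
    rcases h1.2 with h2 | h2
    · exact Or.inl (Nat.eq_of_beq_eq_true h2)
    · simp only [Bool.and_eq_true] at h2
      obtain ⟨⟨⟨h3, h4⟩, h5⟩, h6⟩ := h2
      exact Or.inr ⟨_, Nat.blt_eq.mp h4, Nat.blt_eq.mp h3, _, Nat.blt_eq.mp h5, Nat.eq_of_beq_eq_true h6⟩

theorem tab_closed {wsX : List (List ℕ)} {t : List (List ℕ)} {p : List (ℕ × ℕ)} {k : ℕ} {gs : List ℕ}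
    (hk : wsX.length = k) (hk0 : 0 < k) (hok : okT t p k gs.length = true)
    (h1 : E (ws ++ wsX) [k - 1] = E (ws ++ wsX) [])
    (hes : ∀ q ∈ esT t k gs, E (ws ++ wsX) q.1 = E (ws ++ wsX) q.2)
    (hnd : ((LJ (ws ++ wsX)).take k).Nodup) :
    (∀ x ∈ Subgroup.closure {x | ∃ j < gs.length, getG (LJ (ws ++ wsX)) (gs.getD j 0) = x},
      ∃ i < k, getG (LJ (ws ++ wsX)) i = x) ∧
      Nat.card (Subgroup.closure {x | ∃ j < gs.length, getG (LJ (ws ++ wsX)) (gs.getD j 0) = x}) = k := by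
  obtain ⟨h2, h3⟩ := okT_spec hok
  refine closed_of_tab (o := k - 1) (tab := tab t) ?_ (by omega) ?_ ?_ h3 (fun i hi => by omega) hnd
  · unfold LJ
    rw [length_runG, List.length_append, hk]
    omega
  · rw [← E_one, h1, E_nil]
  · intro i hi j hj
    refine ⟨?_, h2 i hi j hj⟩
    have h4 := hes _ (esT_mem hi hj)
    rw [← E_one, ← E_one, ← E_one]
    rwa [E_two] at h4

/-- the factor `S₅` -/
noncomputable def S : Subgroup Spor.J4 :=
  Subgroup.closure {x | ∃ j < gsA.length, getG (LJ (ws ++ wsA)) (gsA.getD j 0) = x}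

theorem S_facts : (∀ x ∈ S, ∃ i < 120, E (ws ++ wsA) [i] = x) ∧ Nat.card S = 120 := by
  have h := tab_closed (wsX := wsA) (k := 120) (gs := gsA) (by decide +kernel) (by norm_num) okA
    (cA.2.1 ([119], []) List.mem_cons_self) (fun q hq => cA.2.1 q (List.mem_cons_of_mem _ hq)) cA.1
  refine ⟨fun x hx => ?_, h.2⟩
  obtain ⟨i, hi, h1⟩ := h.1 x hx
  exact ⟨i, hi, by rw [E_one, h1]⟩

theorem length_wsA : wsA.length = 120 := by decide +kernel

theorem length_wsP : wsP.length = 256 := by decide +kernel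

theorem shiftA (i : ℕ) : E (ws ++ wsA) [120 + i] = E ws [i] := by
  have h := E_shift ws wsA i
  rwa [length_wsA] at h

theorem shiftP (i : ℕ) : E (ws ++ wsP) [256 + i] = E ws [i] := by
  have h := E_shift ws wsP i
  rwa [length_wsP] at h

theorem S_cent : S ≤ centralizer (zpowers (E ws [18]) : Set Spor.J4) := by
  unfold S
  rw [closure_le]
  rintro _ ⟨j, hj, rfl⟩
  have key : ∀ i : ℕ, E ws [i] * E ws [18] = E ws [18] * E ws [i] → getG (LJ (ws ++ wsA)) (120 + i) ∈
      centralizer (zpowers (E ws [18]) : Set Spor.J4) := by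
    intro i hi
    rw [← E_one, shiftA, mem_centralizer_iff]
    rintro _ ⟨n, rfl⟩
    exact ((show Commute (E ws [18]) (E ws [i]) from hi.symm).zpow_left n).eq
  have h0 : j < 3 := hj
  interval_cases j
  · refine key 11 ?_
    have h := es_get c0.1 (a := [11, 18]) (b := [18, 11]) 2 rfl
    rwa [E_two, E_two] at h
  · refine key 13 ?_
    have h := es_get c0.1 (a := [13, 18]) (b := [18, 13]) 3 rfl
    rwa [E_two, E_two] at h
  · refine key 12 ?_
    have h := es_get c0.1 (a := [12, 18]) (b := [18, 12]) 4 rfl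
    rwa [E_two, E_two] at h

theorem P_card : 2 ^ 8 ∣ Nat.card K := by
  have h := tab_closed (wsX := wsP) (k := 256) (gs := gsP) (by decide +kernel) (by norm_num) okP
    (cP.2.1 ([255], []) List.mem_cons_self) (fun q hq => cP.2.1 q (List.mem_cons_of_mem _ hq)) cP.1
  have h1 : Subgroup.closure {x | ∃ j < gsP.length, getG (LJ (ws ++ wsP)) (gsP.getD j 0) = x} ≤ K := by
    rw [closure_le]
    rintro _ ⟨j, hj, rfl⟩
    have key : ∀ i : ℕ, E ws [i] ∈ K → getG (LJ (ws ++ wsP)) (256 + i) ∈ K := by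
      intro i hi
      rw [← E_one, shiftP]
      exact hi
    have h0 : j < 4 := hj
    interval_cases j
    · exact key 3 p0_mem
    · exact key 2 p1_mem
    · exact key 1 p2_mem
    · exact key 0 p3_mem
  have h2 := Subgroup.card_dvd_of_le h1
  rw [h.2] at h2
  exact h2

theorem nsA_mem {i : ℕ} (hi : i < 119) :
    (([i, 130], [130, i]) : List ℕ × List ℕ) ∈ nsA ∧
    (cond (Nat.beq (oA.getD i 0) 2) (([i, 130, i, 130], [130, i, 130, i]) : List ℕ × List ℕ) ([i, i], [])) ∈ nsA ∧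
    (cond (Nat.beq (oA.getD i 0) 3) (([i], []) : List ℕ × List ℕ) ([i, i, i], [])) ∈ nsA := by
  unfold nsA
  refine ⟨?_, ?_, ?_⟩
  · exact List.mem_append_left _ (List.mem_map.2 ⟨i, List.mem_range.2 hi, rfl⟩)
  · exact List.mem_append_right _ (List.mem_append_left _ (List.mem_map.2 ⟨i, List.mem_range.2 hi, rfl⟩))
  · exact List.mem_append_right _ (List.mem_append_right _ (List.mem_map.2 ⟨i, List.mem_range.2 hi, rfl⟩))

theorem shift_s : E (ws ++ wsA) [130] = E ws [10] := shiftA 10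

theorem E_119 : E (ws ++ wsA) [119] = 1 := cA.2.1 ([119], []) List.mem_cons_self

theorem lt_of_ne {x : Spor.J4} (hx : x ≠ 1) (h : x ∈ S) : ∃ i < 119, E (ws ++ wsA) [i] = x := by
  obtain ⟨i, hi, rfl⟩ := S_facts.1 x h
  refine ⟨i, ?_, rfl⟩
  by_contra h0
  have : i = 119 := by omega
  rw [this] at hx
  exact hx E_119

theorem S_comm {x : Spor.J4} (h : x ∈ S) (hs : x * E ws [10] = E ws [10] * x) : x = 1 := by
  by_contra hx
  obtain ⟨i, hi, rfl⟩ := lt_of_ne hx h
  apply cA.2.2 _ (nsA_mem hi).1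
  show E (ws ++ wsA) [i, 130] = E (ws ++ wsA) [130, i]
  rw [E_two, E_two, shift_s]
  exact hs

theorem S_inv {x : Spor.J4} (h : x ∈ S) (h2 : x * x = 1) (h1 : x ≠ 1) :
    x * (E ws [10] * x * (E ws [10])⁻¹) ≠ (E ws [10] * x * (E ws [10])⁻¹) * x := by
  obtain ⟨i, hi, rfl⟩ := lt_of_ne h1 h
  have h3 := cA.2.2 _ (nsA_mem hi).2.1
  rcases hb : Nat.beq (oA.getD i 0) 2 with _ | _
  · rw [hb] at h3
    exfalso
    apply h3
    show E (ws ++ wsA) [i, i] = E (ws ++ wsA) []
    rw [E_two, E_nil]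
    exact h2
  · rw [hb] at h3
    intro h4
    apply h3
    show E (ws ++ wsA) [i, 130, i, 130] = E (ws ++ wsA) [130, i, 130, i]
    have hs : (E ws [10])⁻¹ = E ws [10] := by
      rw [inv_eq_iff_mul_eq_one]
      have h5 := es_get c0.1 (a := [10, 10]) (b := []) 1 rfl
      rwa [E_two, E_nil] at h5
    rw [hs] at h4
    rw [E_four, E_four, shift_s]
    simpa only [mul_assoc] using h4

theorem S_three {x : Spor.J4} (h : x ∈ S) (h3 : orderOf x = 3) : ∃ w ∈ K ⊔ zpowers x, orderOf w ∈ [29, 31, 37, 43] := by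
  have h1 : x ≠ 1 := by
    rintro rfl
    rw [orderOf_one] at h3
    norm_num at h3
  obtain ⟨i, hi, rfl⟩ := lt_of_ne h1 h
  have h4 := cA.2.2 _ (nsA_mem hi).2.2
  rcases hb : Nat.beq (oA.getD i 0) 3 with _ | _
  · rw [hb] at h4
    exfalso
    apply h4
    show E (ws ++ wsA) [i, i, i] = E (ws ++ wsA) []
    rw [E_three, E_nil]
    have h5 := pow_orderOf_eq_one (E (ws ++ wsA) [i])
    rw [h3, pow_succ, pow_two] at h5
    rw [← mul_assoc]
    exact h5
  · have h5 := List.all_eq_true.1 okB i (List.mem_range.2 hi)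
    rw [hb, Bool.not_true, Bool.false_or, List.any_eq_true] at h5
    obtain ⟨q, hq, h6⟩ := h5
    simp only [Bool.and_eq_true] at h6
    obtain ⟨⟨h7, h8⟩, h9⟩ := h6
    have hp : q.2.2 ∈ [29, 31, 37, 43] := List.contains_iff_mem.1 h8
    have hpp : q.2.2.Prime := by
      simp only [List.mem_cons, List.not_mem_nil, or_false] at hp
      rcases hp with h | h | h | h <;> rw [h] <;> norm_num
    refine ⟨E (ws ++ wsA) q.2.1, E_mem fun l hl => ?_, ?_⟩
    · have h10 := List.all_eq_true.1 h9 l hl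
      rw [List.contains_iff_mem] at h10
      simp only [List.mem_cons, List.not_mem_nil, or_false] at h10
      rcases h10 with rfl | rfl | rfl | rfl | rfl
      · exact Subgroup.mem_sup_right (mem_zpowers _)
      · exact Subgroup.mem_sup_left ((shiftA 18).symm ▸ d_mem)
      · exact Subgroup.mem_sup_left ((shiftA 17).symm ▸ D_mem)
      · exact Subgroup.mem_sup_left ((shiftA 10).symm ▸ s_mem)
      · exact Subgroup.mem_sup_left ((shiftA 9).symm ▸ k_mem)
    · have h11 := cB.1 _ (List.mem_map.2 ⟨q, hq, rfl⟩)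
      have h12 := cB.2 _ (List.mem_map.2 ⟨q, hq, rfl⟩)
      rw [order_of hpp h11 rfl h12]
      exact hp

/-- **the data** -/
theorem exists_data (hC : Nat.card (centralizer (zpowers (E ws [18]) : Set Spor.J4)) = 840) :
    Nonempty (Data Spor.J4) := by
  refine ⟨⟨E ws [18], E ws [10], E ws [8], E ws [7], E ws [4], K, K_ne, d_mem, b1_mem, b2_mem, f_mem, order_d,
    order_b1, order_b2, order_f, d_gen, s_gen, ?_, ?_, ?_, P_card⟩⟩
  · intro x h1 h2 h3
    exact ⟨E ws [10], s_mem, S_inv (mem_of_pow order_d hC S_facts.2 S_cent h1 (n := 2)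
      (by rw [pow_two]; exact h2) (by norm_num)) h2 h3⟩
  · intro x h1 h2
    exact S_comm (mem_of_comm order_d hC S_facts.2 S_cent h1 h2 ds_ne) h2
  · intro x h1 h3
    exact S_three (mem_of_pow order_d hC S_facts.2 S_cent h1 (n := 3)
      (by rw [← h3]; exact pow_orderOf_eq_one x) (by norm_num)) h3

universe u

/-- **the maximal subgroup `Aut(M₂₂)` of `J₄`** -/
theorem part_d {G : Type u} [Group G] [Finite G] (F : H866.J4Odd.Facts G) (e : Spor.J4 ≃* G) :
    ∃ M : Subgroup G, IsCoatom M ∧ Nonempty (↥M ≃* MulAut ↥Cfsg.Spor.M22) := by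
  have h1 : Nat.card (centralizer (zpowers (E ws [18]) : Set Spor.J4)) = 840 := by
    have h2 : Nat.card (zpowers (e (E ws [18]))) = 7 := by rw [Nat.card_zpowers, MulEquiv.orderOf_eq, order_d]
    obtain ⟨h3, h4⟩ := F.n7 _ h2
    have h5 : Nat.card (centralizer (zpowers (e (E ws [18])) : Set G)) = 840 := by omega
    rw [← h5]
    refine Nat.card_congr (Equiv.subtypeEquiv e.toEquiv fun x => ?_)
    show x ∈ centralizer (zpowers (E ws [18]) : Set Spor.J4) ↔ e x ∈ centralizer (zpowers (e (E ws [18])) : Set G)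
    rw [mem_centralizer_iff, mem_centralizer_iff]
    constructor
    · rintro h _ ⟨n, rfl⟩
      have h6 := h _ (zpow_mem (mem_zpowers _) n)
      show e (E ws [18]) ^ n * e x = e x * e (E ws [18]) ^ n
      rw [← map_zpow, ← map_mul, ← map_mul, h6]
    · rintro h _ ⟨n, rfl⟩
      have h6 := h _ (zpow_mem (mem_zpowers (e (E ws [18]))) n)
      apply e.injective
      show e (E ws [18] ^ n * x) = e (x * E ws [18] ^ n)
      rw [map_mul, map_mul, map_zpow, h6]
  obtain ⟨D⟩ := exists_data h1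
  obtain ⟨D'⟩ := map_data D e
  exact M22Main.main F D'

end Cfsg.Agent.H935.J4Max.M22Fin
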