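import Cfsg.Agent.H858.VK
import Cfsg.Agent.H858.FixJ4

/-!
# Kernel computations with words in J4 (helper935)

Words in the generators `x, y, y⁻¹, t` of J4 are evaluated in the 112-dimensional representation over GF(2).
-/

set_option autoImplicit false

namespace Cfsg.Agent.H935.J4Max.Eval

open Cfsg.Agent.Lib Cfsg.Agent.Lib.F2MatGroup Cfsg.Agent.J4.Rep112

theorem rho_inj : Function.Injective rho := Cfsg.Agent.H858.VK.rho_injective

instance finJ4 : Finite Cfsg.Spor.J4 := Cfsg.Agent.H858.FixJ4.facts.1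

/-- the results of a straight line program in J4 -/
noncomputable def LJ (ws : List (List ℕ)) : List Cfsg.Spor.J4 := runG ws gens

/-- the elements of J4 given by a word in the results of a straight line program -/
noncomputable def E (ws : List (List ℕ)) (w : List ℕ) : Cfsg.Spor.J4 := evG (LJ ws) w

theorem rho_E (ws : List (List ℕ)) (w : List ℕ) :
    rho (E ws w) = evG (runG ws (gens.map rho)) w := by
  rw [runG_map, evG_map]
  rfl

theorem check_J {ws : List (List ℕ)} {es ns : List (List ℕ × List ℕ)}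
    (hc : check 112 codes ws es ns = true) :
    (∀ p ∈ es, E ws p.1 = E ws p.2) ∧ (∀ p ∈ ns, E ws p.1 ≠ E ws p.2) := by
  obtain ⟨h1, h2⟩ := check_sound (by norm_num) codes_gens hc
  constructor
  · intro p hp
    apply rho_inj
    rw [rho_E, rho_E]
    exact h1 p hp
  · intro p hp h
    apply h2 p hp
    rw [← rho_E, ← rho_E, h]

/-- the stabilizer of the row space of a matrix -/
noncomputable def Stab (B : Matrix (Fin 112) (Fin 112) (ZMod 2)) : Subgroup Cfsg.Spor.J4 where
  carrier := {g | ∃ A : Matrix (Fin 112) (Fin 112) (ZMod 2),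
    B * (rho g : Matrix (Fin 112) (Fin 112) (ZMod 2)) = A * B}
  one_mem' := ⟨1, by rw [map_one, Units.val_one, mul_one, one_mul]⟩
  mul_mem' := by
    rintro g h ⟨A, hA⟩ ⟨A', hA'⟩
    refine ⟨A * A', ?_⟩
    rw [map_mul, Units.val_mul, ← mul_assoc, hA, mul_assoc, hA', mul_assoc]
  inv_mem' := by
    rintro g ⟨A, hA⟩
    have key : ∀ n : ℕ, B * (rho (g ^ n) : Matrix (Fin 112) (Fin 112) (ZMod 2)) = A ^ n * B := by
      intro n
      induction n with
      | zero => rw [pow_zero, pow_zero, map_one, Units.val_one, mul_one, one_mul]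
      | succ n ih => rw [pow_succ, pow_succ, map_mul, Units.val_mul, ← mul_assoc, ih, mul_assoc, hA, mul_assoc]
    refine ⟨A ^ (orderOf g - 1), ?_⟩
    rw [← key]
    congr 3
    have h1 : 0 < orderOf g := orderOf_pos g
    have h2 : g ^ (orderOf g - 1) * g = 1 := by
      rw [← pow_succ, Nat.sub_add_cancel h1, pow_orderOf_eq_one]
    exact (eq_inv_of_mul_eq_one_left h2).symm

theorem mem_stab {Bc Ac code : ℕ} {g : Cfsg.Spor.J4} (hc : Codes 112 (rho g) code)
    (h : Nat.beq (F2Mat.mul 112 Bc code) (F2Mat.mul 112 Ac Bc) = true) :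
    g ∈ Stab (F2Mat.toMat 112 Bc) := by
  refine ⟨F2Mat.toMat 112 Ac, ?_⟩
  unfold Codes at hc
  rw [hc, ← F2Mat.toMat_mul, ← F2Mat.toMat_mul, Nat.eq_of_beq_eq_true h]

theorem toMat_zero : F2Mat.toMat 112 0 = 0 := by
  ext i j
  rw [F2Mat.toMat_apply]
  simp [F2Mat.bz]

theorem not_mem_stab {Bc Cc code : ℕ} {g : Cfsg.Spor.J4} (hc : Codes 112 (rho g) code)
    (h0 : Nat.beq (F2Mat.mul 112 Bc Cc) 0 = true)
    (h1 : Nat.beq (F2Mat.mul 112 (F2Mat.mul 112 Bc code) Cc) 0 = false) :
    g ∉ Stab (F2Mat.toMat 112 Bc) := by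
  rintro ⟨A, hA⟩
  unfold Codes at hc
  have h2 : F2Mat.toMat 112 (F2Mat.mul 112 (F2Mat.mul 112 Bc code) Cc) = 0 := by
    rw [F2Mat.toMat_mul, F2Mat.toMat_mul, ← hc, hA, mul_assoc, ← F2Mat.toMat_mul,
      Nat.eq_of_beq_eq_true h0, toMat_zero, mul_zero]
  rw [← toMat_zero] at h2
  have h3 := F2Mat.toMat_inj (F2Mat.mul_lt (by norm_num) _ _) (by positivity) h2
  rw [h3] at h1
  exact absurd h1 (by decide)

/-- check of invariance: `(w, A)` with `B * w = A * B` -/
def invs (Bc : ℕ) (as : List (List ℕ × ℕ)) (L : List ℕ) : Bool :=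
  List.rec true (fun p _ ih => cond (Nat.beq (F2Mat.mul 112 Bc (evW 112 L p.1))
    (F2Mat.mul 112 p.2 Bc)) ih false) as

theorem invs_sound {ws : List (List ℕ)} {Bc : ℕ} {as : List (List ℕ × ℕ)}
    (h : run 112 ws codes (invs Bc as) = true) :
    ∀ p ∈ as, E ws p.1 ∈ Stab (F2Mat.toMat 112 Bc) := by
  obtain ⟨L', h', hk⟩ := run_sound codes_gens h
  induction as with
  | nil => intro p hp; simp at hp
  | cons q as ih =>
    have he' : cond (Nat.beq (F2Mat.mul 112 Bc (evW 112 L' q.1)) (F2Mat.mul 112 q.2 Bc))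
      (invs Bc as L') false = true := hk
    rcases hb : Nat.beq (F2Mat.mul 112 Bc (evW 112 L' q.1)) (F2Mat.mul 112 q.2 Bc) with _ | _
    · rw [hb] at he'; exact absurd he' Bool.false_ne_true
    · rw [hb] at he'
      intro p hp
      rcases List.mem_cons.mp hp with rfl | hp
      · refine mem_stab ?_ hb
        rw [rho_E]
        exact codes_evW h' _
      · have key : ∀ (as : List (List ℕ × ℕ)), invs Bc as L' = true →
            ∀ p ∈ as, E ws p.1 ∈ Stab (F2Mat.toMat 112 Bc) := by
          intro as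
          induction as with
          | nil => intro _ p hp; simp at hp
          | cons q as ih =>
            intro hk
            have he' : cond (Nat.beq (F2Mat.mul 112 Bc (evW 112 L' q.1)) (F2Mat.mul 112 q.2 Bc))
              (invs Bc as L') false = true := hk
            rcases hb : Nat.beq (F2Mat.mul 112 Bc (evW 112 L' q.1)) (F2Mat.mul 112 q.2 Bc) with _ | _
            · rw [hb] at he'; exact absurd he' Bool.false_ne_true
            · rw [hb] at he'
              intro p hp
              rcases List.mem_cons.mp hp with rfl | hp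
              · refine mem_stab ?_ hb
                rw [rho_E]
                exact codes_evW h' _
              · exact ih he' p hp
        exact key as he' p hp

end Cfsg.Agent.H935.J4Max.Eval
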