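import Cfsg.Agent.H935.J4Max.Eval

/-!
# Subgroups of J4 listed by a straight line program (helper935)
-/

set_option autoImplicit false

namespace Cfsg.Agent.H935.J4Max.ListCl

open Cfsg.Agent.Lib Cfsg.Agent.Lib.F2MatGroup Cfsg.Agent.J4.Rep112 Cfsg.Agent.H935.J4Max.Eval

/-! ### Lists of packed matrices -/

def memB (a : ℕ) (L : List ℕ) : Bool :=
  List.rec (motive := fun _ => Bool) false (fun b _ ih => cond (Nat.beq a b) true ih) L

def ndB (L : List ℕ) : Bool :=
  List.rec (motive := fun _ => Bool) true (fun a L ih => cond (memB a L) false ih) L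

theorem memB_cons (a b : ℕ) (L : List ℕ) : memB a (b :: L) = cond (Nat.beq a b) true (memB a L) := rfl

theorem ndB_cons (a : ℕ) (L : List ℕ) : ndB (a :: L) = cond (memB a L) false (ndB L) := rfl

theorem memB_of_mem {a : ℕ} {L : List ℕ} (h : a ∈ L) : memB a L = true := by
  induction L with
  | nil => simp at h
  | cons b L ih =>
    rw [memB_cons]
    rcases List.mem_cons.1 h with rfl | h
    · rw [Nat.beq_refl, cond_true]
    · rw [ih h]
      cases Nat.beq a b <;> rfl

theorem nodup_of_ndB {L : List ℕ} (h : ndB L = true) : L.Nodup := by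
  induction L with
  | nil => exact List.nodup_nil
  | cons a L ih =>
    rw [ndB_cons] at h
    rcases hm : memB a L with _ | _
    · rw [hm] at h
      refine List.nodup_cons.2 ⟨fun h0 => ?_, ih h⟩
      rw [memB_of_mem h0] at hm
      exact absurd hm (by decide)
    · rw [hm] at h
      exact absurd h Bool.false_ne_true

theorem nodup_forall {n : ℕ} {A : List (GL (Fin n) (ZMod 2))} {B : List ℕ} (h : List.Forall₂ (Codes n) A B)
    (hb : ∀ b ∈ B, b < 2 ^ (n * n)) (hB : B.Nodup) : A.Nodup := by
  induction h with
  | nil => exact List.nodup_nil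
  | @cons a b A B h1 h2 ih =>
    obtain ⟨h3, h4⟩ := List.nodup_cons.1 hB
    refine List.nodup_cons.2 ⟨fun h0 => h3 ?_, ih (fun b hb' => hb b (List.mem_cons_of_mem _ hb')) h4⟩
    have key : ∀ {A : List (GL (Fin n) (ZMod 2))} {B : List ℕ}, List.Forall₂ (Codes n) A B → a ∈ A →
        ∃ b' ∈ B, Codes n a b' := by
      intro A B h
      induction h with
      | nil => intro h; simp at h
      | @cons a' b' A B h1 h2 ih =>
        intro h
        rcases List.mem_cons.1 h with rfl | h
        · exact ⟨b', List.mem_cons_self, h1⟩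
        · obtain ⟨b'', h3, h4⟩ := ih h
          exact ⟨b'', List.mem_cons_of_mem _ h3, h4⟩
    obtain ⟨b', hb', h5⟩ := key h2 h0
    unfold Codes at h1 h5
    have h6 : F2Mat.toMat n b = F2Mat.toMat n b' := by rw [← h1, h5]
    rw [F2Mat.toMat_inj (hb b List.mem_cons_self) (hb b' (List.mem_cons_of_mem _ hb')) h6]
    exact hb'

theorem forall₂_take {α β : Type*} {R : α → β → Prop} {A : List α} {B : List β} (h : List.Forall₂ R A B) (k : ℕ) :
    List.Forall₂ R (A.take k) (B.take k) := by
  induction h generalizing k with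
  | nil => simp
  | cons h1 h2 ih =>
    rcases k with _ | k
    · simp
    · exact List.Forall₂.cons h1 (ih k)

theorem run_sound2 {n : ℕ} (hn : 0 < n) {ws : List (List ℕ)} {LG : List (GL (Fin n) (ZMod 2))} {L : List ℕ}
    {k : List ℕ → Bool} (h : List.Forall₂ (Codes n) LG L) (hb : ∀ a ∈ L, a < 2 ^ (n * n))
    (hr : run n ws L k = true) :
    ∃ L', List.Forall₂ (Codes n) (runG ws LG) L' ∧ (∀ a ∈ L', a < 2 ^ (n * n)) ∧ k L' = true := by
  induction ws generalizing LG L with
  | nil => exact ⟨L, h, hb, hr⟩
  | cons w ws ih =>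
    rw [run_cons] at hr
    rw [runG_cons]
    refine ih (List.Forall₂.cons (codes_evW h w) h) ?_ hr
    intro a ha
    rcases List.mem_cons.1 ha with rfl | ha
    · exact evW_lt hn L w
    · exact hb a ha

theorem codes_lt : ∀ a ∈ codes, a < 2 ^ (112 * 112) := by decide +kernel

/-- the check: the first `k` results are distinct, and relations -/
def chk (ws : List (List ℕ)) (k : ℕ) (es ns : List (List ℕ × List ℕ)) : Bool :=
  run 112 ws codes fun L => cond (ndB (L.take k)) (cond (eqs 112 es L) (neqs 112 ns L) false) false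

theorem chk_sound {ws : List (List ℕ)} {k : ℕ} {es ns : List (List ℕ × List ℕ)} (hc : chk ws k es ns = true) :
    ((LJ ws).take k).Nodup ∧ (∀ p ∈ es, E ws p.1 = E ws p.2) ∧ (∀ p ∈ ns, E ws p.1 ≠ E ws p.2) := by
  obtain ⟨L', h', hb, hk⟩ := run_sound2 (by norm_num) codes_gens codes_lt hc
  rcases h1 : ndB (L'.take k) with _ | _
  · rw [h1] at hk; exact absurd hk Bool.false_ne_true
  · rw [h1] at hk
    have hk' : cond (eqs 112 es L') (neqs 112 ns L') false = true := hk
    rcases h2 : eqs 112 es L' with _ | _
    · rw [h2] at hk'; exact absurd hk' Bool.false_ne_true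
    · rw [h2] at hk'
      refine ⟨?_, ?_, ?_⟩
      · have h3 := nodup_forall (forall₂_take h' k) (fun b hb' => hb b (List.mem_of_mem_take hb')) (nodup_of_ndB h1)
        rw [runG_map, ← List.map_take] at h3
        exact List.Nodup.of_map _ h3
      · intro p hp
        apply rho_inj
        rw [rho_E, rho_E]
        exact eqs_sound h' h2 p hp
      · intro p hp h
        apply neqs_sound (by norm_num) h' hk' p hp
        rw [← rho_E, ← rho_E, h]

/-! ### Shifts -/

theorem getG_runG_add {G : Type*} [Group G] (ws : List (List ℕ)) (L : List G) (i : ℕ) :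
    getG (runG ws L) (ws.length + i) = getG L i := by
  induction ws generalizing L i with
  | nil => rw [runG_nil, List.length_nil, zero_add]
  | cons w ws ih =>
    rw [runG_cons, List.length_cons, show ws.length + 1 + i = ws.length + (i + 1) by ring, ih]
    rfl

theorem runG_append {G : Type*} [Group G] (ws ws' : List (List ℕ)) (L : List G) :
    runG (ws ++ ws') L = runG ws' (runG ws L) := by
  induction ws generalizing L with
  | nil => rfl
  | cons w ws ih => rw [List.cons_append, runG_cons, runG_cons, ih]

theorem length_runG {G : Type*} [Group G] (ws : List (List ℕ)) (L : List G) :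
    (runG ws L).length = ws.length + L.length := by
  induction ws generalizing L with
  | nil => simp [runG_nil]
  | cons w ws ih => rw [runG_cons, ih, List.length_cons, List.length_cons]; ring

theorem E_shift (ws ws' : List (List ℕ)) (i : ℕ) : E (ws ++ ws') [ws'.length + i] = E ws [i] := by
  unfold E LJ
  rw [evG_cons, evG_cons, evG_nil, evG_nil, runG_append, getG_runG_add]

/-! ### Listed subgroups -/

theorem mem_of_closed {G : Type*} [Group G] [Finite G] {A : Set G} {S : Set G} (h1 : (1 : G) ∈ A)
    (hm : ∀ a ∈ A, ∀ s ∈ S, a * s ∈ A) {x : G} (hx : x ∈ Subgroup.closure S) : x ∈ A := by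
  have key : ∀ a ∈ A, a * x ∈ A := by
    induction hx using Subgroup.closure_induction with
    | mem x hx => exact fun a ha => hm a ha x hx
    | one => intro a ha; rwa [mul_one]
    | mul x y _ _ h1 h2 => intro a ha; rw [← mul_assoc]; exact h2 _ (h1 _ ha)
    | inv x _ h =>
      intro a ha
      have h2 : ∀ n : ℕ, a * x ^ n ∈ A := by
        intro n
        induction n with
        | zero => rwa [pow_zero, mul_one]
        | succ n ih => rw [pow_succ, ← mul_assoc]; exact h _ ih
      have h3 : x⁻¹ = x ^ (orderOf x - 1) := by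
        have h4 : x ^ (orderOf x - 1) * x = 1 := by
          rw [← pow_succ, Nat.sub_add_cancel (orderOf_pos x), pow_orderOf_eq_one]
        exact (eq_inv_of_mul_eq_one_left h4).symm
      rw [h3]
      exact h2 _
  have := key 1 h1
  rwa [one_mul] at this

/-- The first `k` elements of the list form a subgroup generated by the elements with the indices `gs`. The table
gives the products; `o` is the index of the identity. -/
theorem closed_of_tab {G : Type*} [Group G] [Finite G] {L : List G} {k o : ℕ} {gs : List ℕ} {tab : ℕ → ℕ → ℕ}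
    (hk : k ≤ L.length) (ho : o < k) (h1 : getG L o = 1)
    (ht : ∀ i < k, ∀ j < gs.length, getG L i * getG L (gs.getD j 0) = getG L (tab i j) ∧ tab i j < k)
    (htree : ∀ i < k, i = o ∨ ∃ i' < k, i < i' ∧ ∃ j < gs.length, tab i' j = i)
    (hoo : ∀ i < k, i ≤ o) (hnd : (L.take k).Nodup) :
    (∀ x ∈ Subgroup.closure {x | ∃ j < gs.length, getG L (gs.getD j 0) = x}, ∃ i < k, getG L i = x) ∧
      Nat.card (Subgroup.closure {x | ∃ j < gs.length, getG L (gs.getD j 0) = x}) = k := by
  have hA : ∀ x ∈ Subgroup.closure {x | ∃ j < gs.length, getG L (gs.getD j 0) = x},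
      x ∈ {x | ∃ i < k, getG L i = x} := by
    intro x hx
    refine mem_of_closed (A := {x | ∃ i < k, getG L i = x}) ⟨o, ho, h1⟩ ?_ hx
    rintro _ ⟨i, hi, rfl⟩ _ ⟨j, hj, rfl⟩
    obtain ⟨h2, h3⟩ := ht i hi j hj
    exact ⟨_, h3, h2.symm⟩
  refine ⟨hA, ?_⟩
  have hB : ∀ i < k, getG L i ∈ Subgroup.closure {x | ∃ j < gs.length, getG L (gs.getD j 0) = x} := by
    have key : ∀ m i : ℕ, i < k → o - i ≤ m →
        getG L i ∈ Subgroup.closure {x | ∃ j < gs.length, getG L (gs.getD j 0) = x} := by
      intro m
      induction m with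
      | zero =>
        intro i hi hm
        have : i = o := by have := hoo i hi; omega
        rw [this, h1]
        exact Subgroup.one_mem _
      | succ m ih =>
        intro i hi hm
        rcases htree i hi with rfl | ⟨i', hi', hlt, j, hj, h2⟩
        · rw [h1]; exact Subgroup.one_mem _
        · rw [← h2, ← (ht i' hi' j hj).1]
          exact Subgroup.mul_mem _ (ih i' hi' (by omega)) (Subgroup.subset_closure ⟨j, hj, rfl⟩)
    exact fun i hi => key _ i hi le_rfl
  have hget : ∀ i : ℕ, (hi : i < k) → (L.take k)[i]'(by rw [List.length_take]; omega) = getG L i := by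
    intro i hi
    rw [List.getElem_take]
    unfold getG
    rw [List.getD_eq_getElem _ _ (by omega)]
  let f : Fin k → Subgroup.closure {x | ∃ j < gs.length, getG L (gs.getD j 0) = x} := fun i =>
    ⟨getG L i, hB i i.2⟩
  have hf : Function.Bijective f := by
    constructor
    · intro i j hij
      have h2 : getG L i = getG L j := congrArg Subtype.val hij
      rw [← hget i i.2, ← hget j j.2] at h2
      exact Fin.ext ((hnd.getElem_inj_iff).1 h2)
    · rintro ⟨x, hx⟩
      obtain ⟨i, hi, h2⟩ := hA x hx
      exact ⟨⟨i, hi⟩, Subtype.ext h2⟩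
  rw [← Nat.card_congr (Equiv.ofBijective f hf), Nat.card_eq_fintype_card, Fintype.card_fin]

end Cfsg.Agent.H935.J4Max.ListCl
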