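import Cfsg.Agent.H866.J4Odd

/-!
# The maximal subgroup `Aut(M₂₂)` of `J₄`: group theory (helper935)

`Data G` collects what is read off from explicit matrices; `Facts G` are the facts on `J₄`.
-/

set_option autoImplicit false

namespace Cfsg.Agent.H935.J4Max.M22Abs

open Cfsg Subgroup
open Cfsg.Agent.OrdDiv
open Cfsg.Agent.H866.J4Ord Cfsg.Agent.H866.J4Min Cfsg.Agent.H866.OddTools Cfsg.Agent.H866.J4Odd
open Cfsg.Agent.OddOrderLocal.SylIn

universe u

set_option linter.unusedSectionVars false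

variable {G : Type u} [Group G] [Finite G]

/-- a `p`-group acting on a `q`-group -/
theorem le_cent_of_pow {p q a : ℕ} [Fact p.Prime] [hq : Fact q.Prime] {U R : Subgroup G} (hU : IsPGroup p U)
    (hn : U ≤ normalizer (R : Set G)) (hR : Nat.card R = q ^ a) (h : ∀ i < a, q ^ i % p ≠ q ^ a % p) :
    R ≤ centralizer (U : Set G) := by
  have h1 := card_mod hU hn
  obtain ⟨i, hi, h2⟩ := (Nat.dvd_prime_pow hq.out).1
    (hR ▸ Subgroup.card_dvd_of_le (inf_le_left : R ⊓ centralizer (U : Set G) ≤ R))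
  rw [hR, h2] at h1
  have h3 : i = a := by
    by_contra hne
    exact h i (lt_of_le_of_ne hi hne) h1.symm
  have h4 : R ⊓ centralizer (U : Set G) = R :=
    Subgroup.eq_of_le_of_card_ge inf_le_left (by rw [h2, hR, h3])
  exact inf_eq_left.1 h4

/-- a `p`-group acting on a `p'`-group `R` such that it acts trivially on the `q`-groups of the orders
dividing `|R|` -/
theorem le_cent_of_sylow {p : ℕ} [Fact p.Prime] {U R : Subgroup G} (hU : IsPGroup p U)
    (hn : U ≤ normalizer (R : Set G)) (hp : ¬ p ∣ Nat.card R)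
    (h : ∀ q a : ℕ, q.Prime → 0 < a → q ^ a ∣ Nat.card R → ∀ i < a, q ^ i % p ≠ q ^ a % p) :
    R ≤ centralizer (U : Set G) := by
  have h0 : Nat.card R ∣ Nat.card (R ⊓ centralizer (U : Set G) : Subgroup G) := by
    rw [← Nat.factorization_prime_le_iff_dvd Nat.card_pos.ne' Nat.card_pos.ne']
    intro q hq
    have : Fact q.Prime := ⟨hq⟩
    obtain ⟨Q, hQ⟩ := Lib.CoprimeHyperplane.exists_invariant_sylow hU hn hp q
    have h1 : Nat.card ((Q : Subgroup R).map R.subtype : Subgroup G) = q ^ (Nat.card R).factorization q := by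
      rw [Subgroup.card_map_of_injective R.subtype_injective, Q.card_eq_multiplicity]
    rcases Nat.eq_zero_or_pos ((Nat.card R).factorization q) with h2 | h2
    · rw [h2]; exact Nat.zero_le _
    · have h3 := le_cent_of_pow hU hQ h1 (h q _ hq h2 (Nat.ordProj_dvd _ _))
      have h4 : (Q : Subgroup R).map R.subtype ≤ R ⊓ centralizer (U : Set G) :=
        le_inf (Subgroup.map_subtype_le _) h3
      have h5 := Subgroup.card_dvd_of_le h4
      rw [h1] at h5
      exact (hq.pow_dvd_iff_le_factorization Nat.card_pos.ne').1 h5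
  have h6 : R ⊓ centralizer (U : Set G) = R :=
    Subgroup.eq_of_le_of_card_ge inf_le_left (Nat.le_of_dvd Nat.card_pos h0)
  exact inf_eq_left.1 h6

/-- the primes and exponents for which the elements of order 11 act trivially -/
def l5 : List (ℕ × ℕ) := [(2, 5), (3, 2), (5, 1), (7, 1), (31, 1)]

theorem valid_l5 : valid l5 312480 = true := by decide +kernel

theorem l5_ok : ∀ x ∈ l5, ∀ a ≤ x.2, ∀ i < a, x.1 ^ i % 11 ≠ x.1 ^ a % 11 := by decide +kernel

instance fact11 : Fact (Nat.Prime 11) := ⟨by norm_num⟩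
instance fact7 : Fact (Nat.Prime 7) := ⟨by norm_num⟩

theorem isPGroup_zpowers {x : G} {p : ℕ} (h : orderOf x = p) : IsPGroup p (zpowers x) :=
  IsPGroup.of_card (n := 1) (by rw [Nat.card_zpowers, h, pow_one])

/-- an element of order 11 normalizing `R` with `|R|` dividing `2^5·3^2·5·7·31` centralizes it -/
theorem le_cent_eleven {b : G} (hb : orderOf b = 11) {R : Subgroup G} (hn : zpowers b ≤ normalizer (R : Set G))
    (hR : Nat.card R ∣ 312480) : R ≤ centralizer (zpowers b : Set G) := by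
  refine le_cent_of_sylow (isPGroup_zpowers hb) hn (fun h => ?_) ?_
  · have := h.trans hR
    norm_num at this
  · intro q a hq ha hqa i hi
    obtain ⟨k, hk, hak⟩ := exists_pair valid_l5 hq ha (hqa.trans hR)
    exact l5_ok _ hk a hak i hi

/-- the data read off from matrices -/
structure Data (G : Type u) [Group G] where
  d : G
  s : G
  b1 : G
  b2 : G
  f : G
  K : Subgroup G
  ne_top : K ≠ ⊤
  d_mem : d ∈ K
  b1_mem : b1 ∈ K
  b2_mem : b2 ∈ K
  f_mem : f ∈ K
  order_d : orderOf d = 7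
  order_b1 : orderOf b1 = 11
  order_b2 : orderOf b2 = 11
  order_f : orderOf f = 5
  d_gen : d ∈ closure {b1, b2}
  s_gen : s ∈ closure {b1, b2}
  inv : ∀ x : G, x * d = d * x → x * x = 1 → x ≠ 1 → ∃ k ∈ K, x * (k * x * k⁻¹) ≠ (k * x * k⁻¹) * x
  cent : ∀ x : G, x * d = d * x → x * s = s * x → x = 1
  three : ∀ x : G, x * d = d * x → orderOf x = 3 →
    ∃ w ∈ K ⊔ zpowers x, orderOf w ∈ [29, 31, 37, 43]
  sylow : 2 ^ 8 ∣ Nat.card K

variable (D : Data G)

namespace Data

/-- a subgroup centralized by `b1` and `b2` is trivial -/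
theorem bot_of_cent {R : Subgroup G} (h1 : R ≤ centralizer (zpowers D.b1 : Set G))
    (h2 : R ≤ centralizer (zpowers D.b2 : Set G)) : R = ⊥ := by
  rw [eq_bot_iff]
  intro x hx
  have h3 : closure {D.b1, D.b2} ≤ centralizer ({x} : Set G) := by
    rw [closure_le]
    rintro y (rfl | rfl)
    · have := (mem_centralizer_iff.1 (h1 hx)) _ (mem_zpowers D.b1)
      exact mem_centralizer_singleton_iff.2 this
    · have := (mem_centralizer_iff.1 (h2 hx)) _ (mem_zpowers D.b2)
      exact mem_centralizer_singleton_iff.2 this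
  exact mem_bot.2 (D.cent x (mem_centralizer_singleton_iff.1 (h3 D.d_gen)).symm
    (mem_centralizer_singleton_iff.1 (h3 D.s_gen)).symm)

theorem zb1_le {M R : Subgroup G} (hK : D.K ≤ M) (hn : M ≤ normalizer (R : Set G)) :
    zpowers D.b1 ≤ normalizer (R : Set G) := zpowers_le.2 (hn (hK D.b1_mem))

theorem zb2_le {M R : Subgroup G} (hK : D.K ≤ M) (hn : M ≤ normalizer (R : Set G)) :
    zpowers D.b2 ≤ normalizer (R : Set G) := zpowers_le.2 (hn (hK D.b2_mem))

theorem zd_le {M R : Subgroup G} (hK : D.K ≤ M) (hn : M ≤ normalizer (R : Set G)) :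
    zpowers D.d ≤ normalizer (R : Set G) := zpowers_le.2 (hn (hK D.d_mem))

/-- a `q`-group normalized by `M` on which the elements of order 11 act trivially -/
theorem bot_of_pow {M R : Subgroup G} (hK : D.K ≤ M) (hn : M ≤ normalizer (R : Set G)) {q a : ℕ} (hq : q.Prime)
    (hR : Nat.card R = q ^ a) (h : ∀ i < a, q ^ i % 11 ≠ q ^ a % 11) : R = ⊥ := by
  have : Fact q.Prime := ⟨hq⟩
  exact D.bot_of_cent (le_cent_of_pow (isPGroup_zpowers D.order_b1) (D.zb1_le hK hn) hR h)
    (le_cent_of_pow (isPGroup_zpowers D.order_b2) (D.zb2_le hK hn) hR h)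

theorem bot_of_dvd {M R : Subgroup G} (hK : D.K ≤ M) (hn : M ≤ normalizer (R : Set G))
    (hR : Nat.card R ∣ 312480) : R = ⊥ :=
  D.bot_of_cent (le_cent_eleven D.order_b1 (D.zb1_le hK hn) hR) (le_cent_eleven D.order_b2 (D.zb2_le hK hn) hR)

theorem card_zd : Nat.card (zpowers D.d) = 7 := by rw [Nat.card_zpowers, D.order_d]

/-- `|C(d)| = 840` -/
theorem card_cd (F : Facts G) : Nat.card (centralizer (zpowers D.d : Set G)) = 840 := by
  obtain ⟨h1, h2⟩ := F.n7 (zpowers D.d) D.card_zd
  omega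

/-- no normal elementary abelian subgroup -/
theorem not_elem (F : Facts G) {M R : Subgroup G} (hK : D.K ≤ M) (hn : M ≤ normalizer (R : Set G)) (hR : R ≠ ⊥)
    {r : ℕ} (hr : r.Prime) (h : IsElementaryAbelian r R) : False := by
  obtain ⟨x, hx, j, hj1, hj2, hj3, rfl, hj⟩ := F.ea_card hR hr h
  have hd := isPGroup_zpowers D.order_d
  have hm := card_mod hd (D.zd_le hK hn)
  have hle : Nat.card (R ⊓ centralizer (zpowers D.d : Set G) : Subgroup G) ∣ 840 := by
    rw [← D.card_cd F]
    exact Subgroup.card_dvd_of_le inf_le_right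
  have hle2 : Nat.card (R ⊓ centralizer (zpowers D.d : Set G) : Subgroup G) ∣ x.1 ^ j := by
    rw [← hj]
    exact Subgroup.card_dvd_of_le inf_le_left
  have key : ∀ {q a : ℕ}, x.1 = q → j = a → (∀ i < a, q ^ i % 11 ≠ q ^ a % 11) → False := by
    intro q a hq ha h
    subst hq ha
    exact hR (D.bot_of_pow hK hn hr hj h)
  simp only [lJ, List.mem_cons, List.not_mem_nil, or_false] at hx
  rcases hx with rfl | rfl | rfl | rfl | rfl | rfl | rfl | rfl | rfl | rfl
  · -- `r = 2`
    have hj4 := hj3 rfl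
    by_cases hc : R ⊓ centralizer (zpowers D.d : Set G) = ⊥
    · rw [hc, Subgroup.card_bot, hj] at hm
      have h1 : 2 ^ j % 7 = 1 := hm
      have h2 : j = 3 ∨ j = 6 ∨ j = 9 := by
        clear key hm hj3 hj hle hle2
        interval_cases j <;> omega
      rcases h2 with rfl | rfl | rfl
      · exact key rfl rfl (by decide)
      · exact key rfl rfl (by decide)
      · exact key rfl rfl (by decide)
    · obtain ⟨⟨y, hy⟩, hy0⟩ := Subgroup.ne_bot_iff_exists_ne_one.1 hc
      have hy1 : y ≠ 1 := fun h0 => hy0 (Subtype.ext h0)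
      have h1 : (y : G) * D.d = D.d * y := ((mem_centralizer_iff.1 hy.2) _ (mem_zpowers D.d)).symm
      have h2 : (y : G) * y = 1 := by
        have := h.2 (y : G) hy.1
        rwa [pow_two] at this
      obtain ⟨k, hk, h3⟩ := D.inv y h1 h2 hy1
      apply h3
      have h4 : k * y * k⁻¹ ∈ R := ((mem_normalizer_iff.1 (hn (hK hk))) _).1 hy.1
      exact congrArg Subtype.val (h.1.is_comm.comm (⟨y, hy.1⟩ : R) ⟨_, h4⟩)
  · -- `r = 3`
    simp only at hj2 key
    interval_cases j
    · exact key rfl rfl (by decide)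
    · exact key rfl rfl (by decide)
    · exact key rfl rfl (by decide)
  · simp only at hj2 key
    interval_cases j
    exact key rfl rfl (by decide)
  · simp only at hj2 key
    interval_cases j
    exact key rfl rfl (by decide)
  · -- `r = 11`
    simp only at hj2 hle2 hj
    have h1 : Nat.card (R ⊓ centralizer (zpowers D.d : Set G) : Subgroup G) = 1 :=
      Nat.eq_one_of_dvd_coprimes (a := 840) (b := 11 ^ j) (Nat.Coprime.pow_right _ (by norm_num)) hle hle2
    rw [h1, hj] at hm
    have h2 : 11 ^ j % 7 = 1 := hm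
    have h3 : j = 3 := by
      clear key hm hj3 hj hle2
      interval_cases j <;> omega
    subst h3
    have h4 := F.n11 R hj
    have h5 : Nat.card (zpowers D.d) ∣ Nat.card (normalizer (R : Set G)) :=
      Subgroup.card_dvd_of_le (D.zd_le hK hn)
    rw [D.card_zd, h4] at h5
    norm_num at h5
  · -- `r = 23`
    simp only at hj2 hle2 hj
    have hj5 : j = 1 := by omega
    subst hj5
    have h1 : Nat.card (R ⊓ centralizer (zpowers D.d : Set G) : Subgroup G) = 1 :=
      Nat.eq_one_of_dvd_coprimes (a := 840) (b := 23 ^ 1) (by norm_num) hle hle2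
    rw [h1, hj] at hm
    exact absurd (show 23 ^ 1 % 7 = 1 from hm) (by norm_num)
  · simp only at hj2 key
    interval_cases j
    exact key rfl rfl (by decide)
  · simp only at hj2 key
    interval_cases j
    exact key rfl rfl (by decide)
  · simp only at hj2 key
    interval_cases j
    exact key rfl rfl (by decide)
  · simp only at hj2 key
    interval_cases j
    exact key rfl rfl (by decide)

theorem ords_a : ∀ n ∈ ords, ¬ 11 ∣ n → ¬ 7 ∣ n → n ∣ 312480 := by decide +kernel

theorem ords_b : ∀ n ∈ ords, ¬ 7 ^ 2 ∣ n := by decide +kernel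

theorem ords_c : ∀ n ∈ ords, 11 ∣ n → ¬ 11 ^ 2 ∣ n ∨ 11 ^ 3 ∣ n ∧ ¬ 11 ^ 4 ∣ n := by decide +kernel

theorem ords_d : ∀ n ∈ ords, 7 ∣ n → 11 ∣ n →
    n = 39732 ∨ n = 443520 ∨ n = 10200960 ∨ n = 244823040 ∨ n = nJ := by decide +kernel

theorem le_cent_comm {A B : Subgroup G} (h : A ≤ centralizer (B : Set G)) : B ≤ centralizer (A : Set G) :=
  Subgroup.le_centralizer_iff.1 h

/-- the order of a normal simple subgroup -/
theorem card_simple (F : Facts G) {M R : Subgroup G} (hK : D.K ≤ M) (hM : M ≠ ⊤) (hRM : R ≤ M)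
    (hn : M ≤ normalizer (R : Set G)) (hR : R ≠ ⊥) (hc : Nat.card R ∈ ords) :
    Nat.card R = 443520 ∨ Nat.card R = 10200960 ∨ Nat.card R = 244823040 := by
  have hd := isPGroup_zpowers D.order_d
  have hb := isPGroup_zpowers D.order_b1
  have hcd := D.card_cd F
  by_cases h11 : 11 ∣ Nat.card R
  · by_cases h7 : 7 ∣ Nat.card R
    · rcases ords_d _ hc h7 h11 with h | h | h | h | h
      · exfalso
        have : Fact (Nat.Prime 5) := ⟨by norm_num⟩
        obtain ⟨Y, hY, hY1, hY2⟩ := exists_cent (isPGroup_zpowers D.order_f)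
          (zpowers_le.2 (hn (hK D.f_mem))) (K := R) (by rw [h]; norm_num) (q := 43) (by norm_num)
          (by rw [h]; norm_num) (by rw [h]; norm_num) (by norm_num)
        have h1 : zpowers D.f ≤ Y := (le_cent_comm hY2).trans (F.c43 Y hY1)
        have h2 := Subgroup.card_dvd_of_le h1
        rw [Nat.card_zpowers, D.order_f, hY1] at h2
        norm_num at h2
      · exact Or.inl h
      · exact Or.inr (Or.inl h)
      · exact Or.inr (Or.inr h)
      · exact absurd (top_le_iff.1 (F.eq_top h ▸ hRM)) hM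
    · exfalso
      rcases ords_c _ hc h11 with h | ⟨h, h'⟩
      · obtain ⟨Y, hY, hY1, hY2⟩ := exists_cent hd (D.zd_le hK hn) h7 (q := 11) (by norm_num) h11 h (by norm_num)
        have h2 := Subgroup.card_dvd_of_le hY2
        rw [hY1, hcd] at h2
        norm_num at h2
      · obtain ⟨Q, hQ⟩ := Lib.CoprimeHyperplane.exists_invariant_sylow hd (D.zd_le hK hn) h7 11
        have h1 : Nat.card ((Q : Subgroup R).map R.subtype : Subgroup G) = 11 ^ 3 := by
          rw [Subgroup.card_map_of_injective R.subtype_injective, Q.card_eq_multiplicity]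
          congr 1
          have h11p : Nat.Prime 11 := by norm_num
          apply le_antisymm
          · by_contra h2
            push Not at h2
            exact h' ((h11p.pow_dvd_iff_le_factorization Nat.card_pos.ne').2 h2)
          · exact (h11p.pow_dvd_iff_le_factorization Nat.card_pos.ne').1 h
        have h2 := Subgroup.card_dvd_of_le hQ
        rw [D.card_zd, F.n11 _ h1] at h2
        norm_num at h2
  · exfalso
    by_cases h7 : 7 ∣ Nat.card R
    · obtain ⟨Y, hY, hY1, hY2⟩ := exists_cent hb (D.zb1_le hK hn) h11 (q := 7) (by norm_num) h7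
        (ords_b _ hc) (by norm_num)
      have h2 := Subgroup.card_dvd_of_le (le_cent_comm hY2)
      obtain ⟨h3, h4⟩ := F.n7 Y hY1
      rw [Nat.card_zpowers, D.order_b1, show Nat.card (centralizer (Y : Set G)) = 840 by omega] at h2
      norm_num at h2
    · exact hR (D.bot_of_dvd hK hn (ords_a _ hc h11 h7))

/-- `7` divides the order of `J4` once -/
theorem seven_sq : ¬ 7 ^ 2 ∣ nJ := by norm_num [nJ]

theorem isSyl_of_seven (F : Facts G) {P X : Subgroup G} (hP : Nat.card P = 7) (hPX : P ≤ X) : IsSyl 7 P X := by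
  refine ⟨hPX, IsPGroup.of_card (n := 1) (by rw [hP, pow_one]), fun h => seven_sq ?_⟩
  have h1 := card_mul_relIndex hPX
  obtain ⟨c, hc⟩ := h
  have h2 : 7 ^ 2 ∣ Nat.card X := ⟨c, by rw [← h1, hP, hc]; ring⟩
  exact h2.trans (F.dvd X)

theorem exists_seven (F : Facts G) {X : Subgroup G} (h : 7 ∣ Nat.card X) : ∃ Q ≤ X, Nat.card Q = 7 := by
  obtain ⟨Q, hQ⟩ := exists_isSyl 7 X
  refine ⟨Q, hQ.le, ?_⟩
  obtain ⟨j, hj⟩ := IsPGroup.iff_card.1 hQ.isPGroup
  have h5 : j ≠ 0 := by
    rintro rfl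
    have h6 := card_mul_relIndex hQ.le
    rw [hj, pow_zero, one_mul] at h6
    exact hQ.not_dvd (h6 ▸ h)
  have h6 : ¬ 2 ≤ j := fun h7 => seven_sq ((pow_dvd_pow _ h7).trans (hj ▸ F.dvd Q))
  have h7 : j = 1 := by omega
  rw [hj, h7, pow_one]

/-- a subgroup of order 7 of `M` is contained in a normal subgroup of order divisible by 7 -/
theorem d_mem_of (F : Facts G) {M R : Subgroup G} (hK : D.K ≤ M) (hRM : R ≤ M)
    (hn : M ≤ normalizer (R : Set G)) (h7 : 7 ∣ Nat.card R) : D.d ∈ R := by
  obtain ⟨Q, hQR, hQ⟩ := exists_seven F h7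
  obtain ⟨x, hx, h6⟩ := (isSyl_of_seven F hQ (hQR.trans hRM)).exists_conj
    (isSyl_of_seven F D.card_zd (zpowers_le.2 (hK D.d_mem)))
  have h7 : zpowers D.d ≤ R := by
    rw [← h6]
    rintro _ ⟨y, hy, rfl⟩
    exact ((mem_normalizer_iff.1 (hn hx)) y).1 (hQR hy)
  exact h7 (mem_zpowers _)

/-- the centralizer of the normal simple subgroup is trivial -/
theorem cent_bot (F : Facts G) {M R : Subgroup G} (hK : D.K ≤ M) (hRM : R ≤ M)
    (hn : M ≤ normalizer (R : Set G)) (h7 : 7 ∣ Nat.card R) : M ⊓ centralizer (R : Set G) = ⊥ := by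
  have hd := D.d_mem_of F hK hRM hn h7
  have h1 : M ⊓ centralizer (R : Set G) ≤ centralizer (zpowers D.d : Set G) :=
    inf_le_right.trans (centralizer_le (zpowers_le.2 hd))
  have h2 := Subgroup.card_dvd_of_le h1
  rw [D.card_cd F] at h2
  refine D.bot_of_dvd hK (M := M) ?_ (h2.trans (by norm_num))
  intro x hx
  rw [mem_normalizer_iff]
  have key : ∀ {x y : G}, x ∈ M → y ∈ M ⊓ centralizer (R : Set G) → x * y * x⁻¹ ∈ M ⊓ centralizer (R : Set G) := by
    intro x y hx hy
    refine ⟨M.mul_mem (M.mul_mem hx hy.1) (M.inv_mem hx), ?_⟩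
    have hy2 : y ∈ centralizer (R : Set G) := hy.2
    refine (mem_centralizer_iff (s := (R : Set G))).2 fun r hr => ?_
    have h3 : x⁻¹ * r * x ∈ R := by
      have := ((mem_normalizer_iff.1 (hn (M.inv_mem hx))) r).1 hr
      rwa [inv_inv] at this
    have h4 := (mem_centralizer_iff.1 hy2) _ h3
    calc r * (x * y * x⁻¹) = x * ((x⁻¹ * r * x) * y) * x⁻¹ := by group
      _ = x * (y * (x⁻¹ * r * x)) * x⁻¹ := by rw [h4]
      _ = x * y * x⁻¹ * r := by group
  intro y
  refine ⟨fun hy => key hx hy, fun hy => ?_⟩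
  have h3 := key (M.inv_mem hx) hy
  have h4 : x⁻¹ * (x * y * x⁻¹) * x⁻¹⁻¹ = y := by group
  rwa [h4] at h3

end Data

end Cfsg.Agent.H935.J4Max.M22Abs
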