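import Cfsg.Agent.H935.J4Max.M22Abs
import Cfsg.Agent.Mrg.Omega.TwoF.RowM11
import Cfsg.Agent.Mrg.Omega.TwoF.RowLU
import Cfsg.Agent.H865.Seven

/-!
# The maximal subgroup `Aut(M₂₂)` of `J₄`: the conclusion from the data (helper935)
-/

set_option autoImplicit false

namespace Cfsg.Agent.H935.J4Max.M22Main

open Cfsg Subgroup
open Cfsg.Agent.OrdDiv
open Cfsg.Agent.H866.J4Ord Cfsg.Agent.H866.J4Min Cfsg.Agent.H866.OddTools Cfsg.Agent.H866.J4Odd
open Cfsg.Agent.OddOrderLocal.SylIn
open Cfsg.Agent.H935.J4Max.M22Abs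
open Cfsg.Agent.SporadicA.GolayBase Cfsg.Agent.SporadicA.GolayPerm
open Cfsg.Agent.SporadicStructure.M24El

universe u

theorem names22 : ∀ x ∈ names, x.2 = 443520 → x.1 = .m22 := by decide +kernel
theorem names23 : ∀ x ∈ names, x.2 = 10200960 → x.1 = .m23 := by decide +kernel
theorem names24 : ∀ x ∈ names, x.2 = 244823040 → x.1 = .m24 := by decide +kernel

theorem card_mulAut_congr {A B : Type*} [Group A] [Group B] (e : A ≃* B) :
    Nat.card (MulAut A) = Nat.card (MulAut B) := Nat.card_congr (MulAut.congr e).toEquiv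

/-- commuting elements of orders 7 and 3 of `M24` -/
theorem exists_comm : ∃ a b : M24, orderOf a = 7 ∧ orderOf b = 3 ∧ b * a = a * b := by
  have h7 : orderOf (SporadicStructure.M24El.el H865.Seven.P7) = 7 := by
    have : Fact (Nat.Prime 7) := ⟨by norm_num⟩
    refine orderOf_eq_prime ?_ fun h => ?_
    · have ok := H865.Seven.ok7
      have ok2 := ok_pcomp ok ok
      have ok4 := ok_pcomp ok2 ok2
      have ok3 := ok_pcomp ok2 ok
      have h1 : pcomp (pcomp (pcomp H865.Seven.P7 H865.Seven.P7) (pcomp H865.Seven.P7 H865.Seven.P7))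
        (pcomp (pcomp H865.Seven.P7 H865.Seven.P7) H865.Seven.P7) = idP := by decide +kernel
      rw [← el_idP, ← h1, el_pcomp ok4 ok3, el_pcomp ok2 ok2, el_pcomp ok2 ok, el_pcomp ok ok]
      simp only [pow_succ, pow_zero, one_mul, mul_assoc]
    · have h1 := H865.Seven.s_a7_zero
      rw [h, one_smul] at h1
      exact absurd (H865.Seven.a7_injective h1) (by decide)
  have h42 := H865.Seven.card_centralizer
  have : Fact (Nat.Prime 3) := ⟨by norm_num⟩
  obtain ⟨b, hb⟩ := exists_prime_orderOf_dvd_card' (G := centralizer (zpowers (SporadicStructure.M24El.el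
    H865.Seven.P7) : Set M24)) 3 (by rw [h42]; norm_num)
  refine ⟨_, b, h7, by rw [← hb, Subgroup.orderOf_coe], ?_⟩
  exact ((mem_centralizer_iff.1 b.2) _ (mem_zpowers _)).symm

variable {G : Type u} [Group G] [Finite G]

/-- **the maximal subgroup `Aut(M₂₂)`** -/
theorem main (F : Facts G) (D : Data G) : ∃ M : Subgroup G, IsCoatom M ∧ Nonempty (M ≃* MulAut Spor.M22) := by
  obtain ⟨M, hM, hKM⟩ := (eq_top_or_exists_le_coatom D.K).resolve_left D.ne_top
  refine ⟨M, hM, ?_⟩
  have hMb : M ≠ ⊥ := by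
    rintro rfl
    have h1 := mem_bot.1 (hKM D.d_mem)
    have h2 := D.order_d
    rw [h1, orderOf_one] at h2
    norm_num at h2
  obtain ⟨R, hRM, hR, hn, -, h⟩ := exists_min F.tab F.known (F.card ▸ dvd_rfl) M hMb
  rcases h with ⟨r, hr, h⟩ | ⟨hs, hna, hc⟩
  · exact (D.not_elem F hKM hn hR hr h).elim
  have hcard := D.card_simple F hKM hM.1 hRM hn hR hc
  have h7 : 7 ∣ Nat.card R := by rcases hcard with h | h | h <;> rw [h] <;> norm_num
  have hcent := D.cent_bot F hKM hRM hn h7
  let φ : M →* MulAut R := R.normalizerMonoidHom.comp (inclusion hn)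
  have hφ : Function.Injective φ := by
    rw [injective_iff_map_eq_one]
    intro x hx
    have h1 : (x : G) ∈ M ⊓ centralizer (R : Set G) := by
      refine ⟨x.2, ?_⟩
      refine (mem_centralizer_iff (s := (R : Set G))).2 fun r hr => ?_
      have h2 : ((φ x) ⟨r, hr⟩ : G) = r := by rw [hx]; rfl
      have h3 : (x : G) * r * (x : G)⁻¹ = r := h2
      exact (mul_inv_eq_iff_eq_mul.1 h3).symm
    rw [hcent, mem_bot] at h1
    exact Subtype.ext h1
  have h8 : 2 ^ 8 ∣ Nat.card M := D.sylow.trans (Subgroup.card_dvd_of_le hKM)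
  have hRM2 : Nat.card R ∣ Nat.card M := Subgroup.card_dvd_of_le hRM
  have hdvd : Nat.card M ∣ Nat.card (MulAut R) := Subgroup.card_dvd_of_injective φ hφ
  obtain ⟨x, hx, hreal, hxc⟩ := exists_name F.tab (F.known R) hna (F.dvd R)
  rcases hcard with h | h | h
  · have hx2 := names22 x hx (by rw [← hxc, h])
    rw [hx2] at hreal
    obtain ⟨e⟩ := (show Nonempty (R ≃* Spor.M22) from hreal)
    have h1 : Nat.card (MulAut R) = 887040 :=
      (card_mulAut_congr e).trans Cfsg.Agent.Omega.TwoF.RowM23.card_mulAut22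
    have h2 : Nat.card M = 887040 := by
      rw [h1] at hdvd
      rw [h] at hRM2
      obtain ⟨c, hc⟩ := hRM2
      rw [hc] at hdvd h8 ⊢
      rw [show 887040 = 443520 * 2 by norm_num] at hdvd
      have h3 := Nat.dvd_of_mul_dvd_mul_left (by norm_num) hdvd
      rcases (Nat.dvd_prime Nat.prime_two).1 h3 with rfl | rfl
      · norm_num at h8
      · norm_num
    have hb : Function.Bijective φ := by
      have : Finite (MulAut R) := Nat.finite_of_card_ne_zero (by rw [h1]; norm_num)
      exact (Nat.bijective_iff_injective_and_card φ).2 ⟨hφ, by rw [h1, h2]⟩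
    exact ⟨(MulEquiv.ofBijective φ hb).trans (MulAut.congr e)⟩
  · exfalso
    have hx2 := names23 x hx (by rw [← hxc, h])
    rw [hx2] at hreal
    obtain ⟨e⟩ := (show Nonempty (R ≃* Spor.M23) from hreal)
    have h1 : Nat.card (MulAut R) = 10200960 :=
      (card_mulAut_congr e).trans (Cfsg.Agent.Omega.TwoF.RowM23.card_mulAut23
        Cfsg.Agent.Omega.TwoF.RowM23.center23)
    have h2 := h8.trans (h1 ▸ hdvd)
    norm_num at h2
  · exfalso
    have hx2 := names24 x hx (by rw [← hxc, h])
    rw [hx2] at hreal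
    obtain ⟨e⟩ := (show Nonempty (R ≃* M24) from hreal)
    have h1 : Nat.card (MulAut R) = 244823040 :=
      (card_mulAut_congr e).trans Cfsg.Agent.Omega.TwoF.RowM24.card_mulAut
    have h2 : Nat.card M = 244823040 := Nat.dvd_antisymm (h1 ▸ hdvd) (h ▸ hRM2)
    have h3 : R = M := Subgroup.eq_of_le_of_card_ge hRM (by rw [h2, h])
    subst h3
    obtain ⟨a, b, ha, hb, hab⟩ := exists_comm
    -- an element of order three commuting with `d`
    have ha1 : orderOf ((e.symm a : R) : G) = 7 := by rw [Subgroup.orderOf_coe, MulEquiv.orderOf_eq, ha]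
    have hb1 : orderOf ((e.symm b : R) : G) = 3 := by rw [Subgroup.orderOf_coe, MulEquiv.orderOf_eq, hb]
    have hab1 : ((e.symm b : R) : G) * ((e.symm a : R) : G) = ((e.symm a : R) : G) * ((e.symm b : R) : G) := by
      rw [← Subgroup.coe_mul, ← Subgroup.coe_mul, ← map_mul, ← map_mul, hab]
    set a' := ((e.symm a : R) : G) with ha'
    set b' := ((e.symm b : R) : G) with hb'
    have haR : a' ∈ R := (e.symm a).2
    have hbR : b' ∈ R := (e.symm b).2
    obtain ⟨g, hg, h6⟩ := (Data.isSyl_of_seven F (by rw [Nat.card_zpowers, ha1]) (zpowers_le.2 haR)).exists_conj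
      (Data.isSyl_of_seven F D.card_zd (zpowers_le.2 (hKM D.d_mem)))
    have h5 : D.d ∈ (zpowers a').map (MulAut.conj g).toMonoidHom := by
      rw [h6]; exact mem_zpowers _
    obtain ⟨y, hy, hyd⟩ := h5
    have hyd' : g * y * g⁻¹ = D.d := hyd
    have hby : b' * y = y * b' := by
      obtain ⟨n, rfl⟩ := hy
      exact ((show Commute b' a' from hab1).zpow_right n).eq
    have hcd : (g * b' * g⁻¹) * D.d = D.d * (g * b' * g⁻¹) := by
      rw [← hyd']
      calc g * b' * g⁻¹ * (g * y * g⁻¹) = g * (b' * y) * g⁻¹ := by group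
        _ = g * (y * b') * g⁻¹ := by rw [hby]
        _ = g * y * g⁻¹ * (g * b' * g⁻¹) := by group
    have hord : orderOf (g * b' * g⁻¹) = 3 := by
      have := (MulAut.conj g).orderOf_eq b'
      rw [MulAut.conj_apply] at this
      rw [this, hb1]
    obtain ⟨w, hw, hwo⟩ := D.three _ hcd hord
    have hwR : w ∈ R := by
      have h10 : D.K ⊔ zpowers (g * b' * g⁻¹) ≤ R :=
        sup_le hKM (zpowers_le.2 (R.mul_mem (R.mul_mem hg hbR) (R.inv_mem hg)))
      exact h10 hw
    have h9 : orderOf w ∣ Nat.card R := by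
      rw [← Subgroup.orderOf_mk w hwR]
      exact orderOf_dvd_natCard _
    rw [h] at h9
    simp only [List.mem_cons, List.not_mem_nil, or_false] at hwo
    rcases hwo with h10 | h10 | h10 | h10 <;> rw [h10] at h9 <;> norm_num at h9

end Cfsg.Agent.H935.J4Max.M22Main
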